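import Groth.Agent.H1Spread.Locus
import Groth.Agent.ConsPropLib.Loci
import Groth.Agent.S1324
import Mathlib

/-!
# Constructibility of the component loci
-/

universe u

set_option backward.isDefEq.respectTransparency false
set_option backward.isDefEq.respectTransparency.types false

open AlgebraicGeometry CategoryTheory CategoryTheory.Limits TopologicalSpace Topology

noncomputable section

namespace Groth.Agent.H1Spread

variable {X Y : Scheme.{u}}

theorem isConstructible_preimage_hom {X Y : Scheme.{u}} [IsAffine X] [IsNoetherian Y] (π : X ⟶ Y) {A : Set Y}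
    (hA : IsConstructible A) : IsConstructible (π ⁻¹' A) := by
  refine hA.preimage π.continuous fun s hs hsc => ?_
  have hc : IsCompact s := NoetherianSpace.isCompact s
  intro W hW hWo
  exact QuasiSeparatedSpace.inter_isCompact (π ⁻¹' s) W (hs.preimage π.continuous)
    (QuasiCompact.isCompact_preimage (f := π) _ hs hc) hWo hW

theorem isConstructible_level [IsNoetherian Y] (f : X ⟶ Y) [LocallyOfFiniteType f] [QuasiCompact f] (n : ℕ∞) :
    IsConstructible {y : Y | MoreMor.nGeomConnComp f y = n} :=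
  ConsPropLib.isConstructible_of_dichotomy _ fun T j _ _ _ => by
    obtain ⟨W, hη, hW⟩ := exists_open_const (pullback.snd f j)
    have hbc : ∀ t, MoreMor.nGeomConnComp (pullback.snd f j) t = MoreMor.nGeomConnComp f (j t) :=
      fun t => (Triage.GeomCount.nGeom_baseChange f _ (pullback.fst f j) j (IsPullback.of_hasPullback f j) t).2
    have hj : ∀ t ∈ W, MoreMor.nGeomConnComp f (j t) = MoreMor.nGeomConnComp f (j (genericPoint ↑T)) :=
      fun t ht => by rw [← hbc, hW t ht, hbc]
    by_cases h : MoreMor.nGeomConnComp f (j (genericPoint ↑T)) = n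
    · left
      exact ⟨_, mem_interior.2 ⟨W, fun t ht => show _ = n from (hj t ht).trans h, W.isOpen, hη⟩⟩
    · right
      exact ⟨_, mem_interior.2 ⟨W, fun t ht (e : _ = n) => h ((hj t ht).symm.trans e), W.isOpen, hη⟩⟩

theorem isLocallyConstructible_level (f : X ⟶ Y) [LocallyOfFinitePresentation f] [QuasiCompact f] [QuasiSeparated f]
    (n : ℕ∞) : IsLocallyConstructible {y : Y | MoreMor.nGeomConnComp f y = n} :=
  ConsPropLib.lc_of_affine fun V hV => by
    haveI : IsAffine V.toScheme := hV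
    let fV := pullback.snd f V.ι
    obtain ⟨S₀, X₀, _, π, u₀, _, qX, _, hS₀, -, hl, hqc, -, -, sq, -⟩ := ConsPropLib.exists_model_pair fV fV
    haveI := hS₀; haveI := hl; haveI := hqc
    have e : (V.ι ⁻¹' {y : Y | MoreMor.nGeomConnComp f y = n} : Set V.toScheme) =
        π ⁻¹' {y | MoreMor.nGeomConnComp u₀ y = n} := by
      ext v
      show MoreMor.nGeomConnComp f (V.ι v) = n ↔ MoreMor.nGeomConnComp u₀ (π v) = n
      rw [← (Triage.GeomCount.nGeom_baseChange f fV (pullback.fst f V.ι) V.ι (IsPullback.of_hasPullback f V.ι) v).2,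
        (Triage.GeomCount.nGeom_baseChange u₀ fV qX π sq v).2]
    rw [e]
    exact isConstructible_preimage_hom π (isConstructible_level u₀ n)

theorem isConstructible_sectionComponents [IsNoetherian Y] (f : X ⟶ Y) [LocallyOfFiniteType f] [QuasiCompact f]
    (s : Y ⟶ X) (hs : s ≫ f = 𝟙 Y) : IsConstructible (MoreMor.sectionComponents f s) := by
  haveI : CompactSpace X := QuasiCompact.compactSpace_of_compactSpace f
  haveI : IsLocallyNoetherian X := LocallyOfFiniteType.isLocallyNoetherian f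
  haveI : IsNoetherian X := {}
  refine ConsPropLib.isConstructible_of_dichotomy _ fun T j _ _ _ => ?_
  set y := f (j (genericPoint ↑T))
  obtain ⟨V, hVcl, hyV, hVo, hclo⟩ := exists_stratum_clopen f s hs y
  obtain ⟨O, hO, hOV⟩ := isOpen_induced_iff.1 hVo
  have hT : ∀ t, f (j t) ∈ closure ({y} : Set Y) := fun t =>
    (((genericPoint_spec ↑T).specializes (Set.mem_univ t)).map (f.continuous.comp j.continuous)).mem_closure
  let N : Set T := j ⁻¹' (f ⁻¹' O)
  have hN : IsOpen N := (hO.preimage f.continuous).preimage j.continuous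
  have hη : genericPoint ↑T ∈ N := (Set.ext_iff.1 hOV ⟨y, hT _⟩).2 hyV
  have hNV : ∀ t ∈ N, f (j t) ∈ V := fun t ht => (Set.ext_iff.1 hOV ⟨f (j t), hT t⟩).1 ht
  obtain ⟨A, hA, hAE⟩ := isOpen_induced_iff.1 hclo.isOpen
  have hiff : ∀ t ∈ N, j t ∈ A ↔ j t ∈ MoreMor.sectionComponents f s := fun t ht =>
    Set.ext_iff.1 hAE ⟨j t, hNV t ht⟩
  obtain ⟨B, hB, hBE⟩ := isOpen_induced_iff.1 hclo.compl.isOpen
  have hiff' : ∀ t ∈ N, j t ∈ B ↔ ¬ j t ∈ MoreMor.sectionComponents f s := fun t ht =>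
    Set.ext_iff.1 hBE ⟨j t, hNV t ht⟩
  by_cases h : j (genericPoint ↑T) ∈ MoreMor.sectionComponents f s
  · left
    exact ⟨_, mem_interior.2 ⟨N ∩ j ⁻¹' A, fun t ht => (hiff t ht.1).1 ht.2, hN.inter (hA.preimage j.continuous),
      hη, (hiff _ hη).2 h⟩⟩
  · right
    exact ⟨_, mem_interior.2 ⟨N ∩ j ⁻¹' B, fun t ht => (hiff' t ht.1).1 ht.2, hN.inter (hB.preimage j.continuous),
      hη, (hiff' _ hη).2 h⟩⟩

theorem isLocallyConstructible_sectionComponents (f : X ⟶ Y) (s : Y ⟶ X) (hs : s ≫ f = 𝟙 Y)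
    [LocallyOfFinitePresentation f] [QuasiCompact f] [QuasiSeparated f] :
    IsLocallyConstructible (MoreMor.sectionComponents f s) := by
  refine ConsPropLib.lc_of_affine fun U hU => ?_
  haveI : IsAffine U.toScheme := hU
  -- cover the affine open of the source by preimages of affine opens of the target
  refine IsLocallyConstructible.isConstructible (fun x => ?_)
  obtain ⟨V, hV, hxV, -⟩ := exists_isAffineOpen_mem_and_subset (U := (⊤ : Y.Opens)) (x := f (U.ι x)) trivial
  haveI : IsAffine V.toScheme := hV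
  let fV := pullback.snd f V.ι
  let sV : V.toScheme ⟶ pullback f V.ι :=
    pullback.lift (V.ι ≫ s) (𝟙 _) (by rw [Category.assoc, hs, Category.id_comp, Category.comp_id])
  have hsV : sV ≫ fV = 𝟙 _ := pullback.lift_snd _ _ _
  haveI : LocallyOfFinitePresentation (sV ≫ fV) := by rw [hsV]; infer_instance
  haveI : QuasiCompact (sV ≫ fV) := by rw [hsV]; infer_instance
  haveI : QuasiSeparated (sV ≫ fV) := by rw [hsV]; infer_instance
  obtain ⟨S₀, X₀, Y₀, π, f₀, g₀, qX, qY, hS₀, -, hl, hqc, hl', hqc', sqY, sqX⟩ := ConsPropLib.exists_model_mor sV fV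
  haveI := hS₀; haveI := hl; haveI := hqc; haveI := hl'; haveI := hqc'
  -- the new base carries the section
  haveI : CompactSpace X₀ := QuasiCompact.compactSpace_of_compactSpace (f₀ ≫ g₀)
  haveI : IsLocallyNoetherian X₀ := LocallyOfFiniteType.isLocallyNoetherian (f₀ ≫ g₀)
  haveI : IsNoetherian X₀ := {}
  let f₁ := pullback.snd g₀ (f₀ ≫ g₀)
  let s₁ : X₀ ⟶ pullback g₀ (f₀ ≫ g₀) := pullback.lift f₀ (𝟙 _) (by rw [Category.id_comp])
  have hπ : qX ≫ f₀ ≫ g₀ = π := by
    rw [← Category.assoc, sqX.w, Category.assoc, sqY.w, ← Category.assoc, hsV, Category.id_comp]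
  let q₁ : pullback f V.ι ⟶ pullback g₀ (f₀ ≫ g₀) := pullback.lift qY (fV ≫ qX) (by rw [Category.assoc, hπ, sqY.w])
  have hc : IsPullback q₁ fV f₁ qX := by
    refine IsPullback.of_right ?_ (pullback.lift_snd _ _ _) (IsPullback.of_hasPullback g₀ (f₀ ≫ g₀))
    rw [pullback.lift_fst, hπ]
    exact sqY
  have e₁ := S1324.result f₁ s₁ (pullback.lift_snd _ _ _) fV q₁ qX hc sV hsV (by
    refine pullback.hom_ext ?_ ?_
    · rw [Category.assoc, pullback.lift_fst, Category.assoc, pullback.lift_fst]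
      exact sqX.w.symm
    · rw [Category.assoc, pullback.lift_snd, Category.assoc, pullback.lift_snd, ← Category.assoc, hsV,
        Category.id_comp, Category.comp_id])
  have e₂ := S1324.result f s hs fV (pullback.fst f V.ι) V.ι (IsPullback.of_hasPullback f V.ι) sV hsV
    (pullback.lift_fst _ _ _)
  obtain ⟨W, hW, hxW, hWV⟩ := exists_isAffineOpen_mem_and_subset (U := U.ι ⁻¹ᵁ (f ⁻¹ᵁ V)) (x := x) hxV
  haveI : IsAffine W.toScheme := hW
  refine ⟨W, W.isOpen.mem_nhds hxW, W.isOpen, ?_⟩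
  have hr : Set.range (W.ι ≫ U.ι) ⊆ Set.range (pullback.fst f V.ι) := by
    rintro _ ⟨w, rfl⟩
    rw [Scheme.Pullback.range_fst, Scheme.Opens.range_ι]
    exact hWV w.2
  let m := IsOpenImmersion.lift (pullback.fst f V.ι) (W.ι ≫ U.ι) hr
  haveI : LocallyOfFiniteType f₁ := inferInstance
  haveI : QuasiCompact f₁ := inferInstance
  haveI : CompactSpace ↥(pullback g₀ (f₀ ≫ g₀)) := QuasiCompact.compactSpace_of_compactSpace f₁
  haveI : IsLocallyNoetherian (pullback g₀ (f₀ ≫ g₀)) := LocallyOfFiniteType.isLocallyNoetherian f₁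
  haveI : IsNoetherian (pullback g₀ (f₀ ≫ g₀)) := {}
  have h := isConstructible_preimage_hom (m ≫ q₁)
    (isConstructible_sectionComponents f₁ s₁ (pullback.lift_snd _ _ _))
  have e : (m ≫ q₁) ⁻¹' MoreMor.sectionComponents f₁ s₁ =
      (Subtype.val ⁻¹' (U.ι ⁻¹' MoreMor.sectionComponents f s) : Set W.toScheme) := by
    ext w
    have hm : pullback.fst f V.ι (m w) = U.ι (W.ι w) := by
      rw [← Scheme.Hom.comp_apply, IsOpenImmersion.lift_fac, Scheme.Hom.comp_apply]
    show (m ≫ q₁) w ∈ MoreMor.sectionComponents f₁ s₁ ↔ U.ι (W.ι w) ∈ MoreMor.sectionComponents f s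
    rw [Scheme.Hom.comp_apply, ← hm]
    exact (Set.ext_iff.1 e₁ (m w)).symm.trans (Set.ext_iff.1 e₂ (m w))
  rw [e] at h
  exact h

end Groth.Agent.H1Spread
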