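import Groth.Agent.H1Spread.Irred
import Groth.Agent.H1Spread.Constr
import Groth.Agent.FlatMisc.GenFlat
import Groth.Agent.H1Near.Geom
import Groth.Agent.GeomConn5.Point
import Groth.Agent.GeomConn5.Count
import Groth.Prelude.Def_MoreMor
import Mathlib

/-!
# Irreducible components of fibres near the generic point of the base
-/

universe u

set_option backward.isDefEq.respectTransparency false
set_option backward.isDefEq.respectTransparency.types false
set_option maxHeartbeats 1000000

open AlgebraicGeometry CategoryTheory CategoryTheory.Limits TopologicalSpace Topology IsLocalRing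

noncomputable section

namespace Groth.Agent.H1Spread
open Groth.Agent.H1Near

variable {X Y : Scheme.{u}}

/-- The number of geometric irreducible components of a fibre, over any algebraically closed field. -/
theorem nGeomIrredComp_eq_card (f : X ⟶ Y) {F : Type u} [Field F] [IsAlgClosed F]
    (τ : Spec (CommRingCat.of F) ⟶ Y) :
    MoreMor.nGeomIrredComp f (τ (spt F)) = (irreducibleComponents ↥(pullback f τ)).encard := by
  rw [← (Triage.GeomCount.nGeom_baseChange f (pullback.snd f τ)
    (pullback.fst f τ) τ (IsPullback.of_hasPullback f τ) (spt F)).1]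
  let p := pullback.snd f τ
  let S := Spec (CommRingCat.of F)
  let Ω := SeparableClosure (S.residueField (spt F))
  let b : Spec (CommRingCat.of Ω) ⟶ S :=
    Spec.map (CommRingCat.ofHom (algebraMap (S.residueField (spt F)) Ω)) ≫ S.fromSpecResidueField (spt F)
  obtain ⟨φ, hφ⟩ := Spec.map_surjective b
  letI : Algebra F Ω := φ.hom.toAlgebra
  haveI : GeometricallyIrreducible b := by
    rw [← hφ]
    exact GeomConn5.geometricallyIrreducible_spec_field F Ω fun x hx =>
      Triage.GeomCount.range_of_sepClosed F Ω x hx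
  haveI : UniversallyOpen b := by rw [← hφ]; exact VarGeom.universallyOpen_of_field _
  haveI : Surjective b := ⟨fun s => ⟨spt Ω, Subsingleton.elim (α := PrimeSpectrum F) _ _⟩⟩
  let E := (pullbackLeftPullbackSndIso p (S.fromSpecResidueField (spt F))
      (Spec.map (CommRingCat.ofHom (algebraMap (S.residueField (spt F)) Ω)))).schemeIsoToHomeo
  let q := pullback.fst p b
  refine (Set.encard_congr (irreducibleComponentsEquivOfIsPreirreducibleFiber E E.continuous E.isOpenMap
    (fun _ => Set.Subsingleton.isPreirreducible ((Set.subsingleton_singleton).preimage E.injective))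
    E.surjective).toEquiv).symm.trans ?_
  exact (Set.encard_congr (irreducibleComponentsEquivOfIsPreirreducibleFiber q q.continuous q.isOpenMap
    (fun z => (q.isIrreducible_preimage q.isOpenMap isIrreducible_singleton).isPreirreducible)
    q.surjective).toEquiv).symm

/-- The number of geometric irreducible components is constant near the generic point. -/
theorem exists_open_const_irred [IrreducibleSpace ↑Y] (f : X ⟶ Y) [LocallyOfFiniteType f] [QuasiCompact f] :
    ∃ W : Y.Opens, genericPoint ↑Y ∈ W ∧
      ∀ y ∈ W, MoreMor.nGeomIrredComp f y = MoreMor.nGeomIrredComp f (genericPoint ↑Y) := by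
  obtain ⟨C⟩ := FlatMisc.GenericReduction.exists_chart f
  let L₀ := AlgebraicClosure (FractionRing C.R)
  haveI : FaithfulSMul C.R L₀ := (faithfulSMul_iff_algebraMap_injective _ _).2 (by
    rw [IsScalarTower.algebraMap_eq C.R (FractionRing C.R) L₀]
    exact (algebraMap (FractionRing C.R) L₀).injective.comp (IsFractionRing.injective C.R (FractionRing C.R)))
  haveI : Algebra.IsAlgebraic C.R L₀ :=
    (IsFractionRing.comap_isAlgebraic_iff (A := C.R) (K := FractionRing C.R) (C := L₀)).2 inferInstance
  haveI : LocallyOfFiniteType (pullback.snd f C.ι) := MorphismProperty.pullback_snd _ _ ‹_›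
  haveI : QuasiCompact (pullback.snd f C.ι) := MorphismProperty.pullback_snd _ _ ‹_›
  obtain ⟨c, hc, hcard⟩ := exists_irred_near (pullback.snd f C.ι) L₀
  have hiso : ∀ (L : Type u) [Field L] [IsAlgClosed L] [Algebra C.R L],
      (irreducibleComponents ↥(pullback (pullback.snd f C.ι) (sp C.R L))).encard =
        MoreMor.nGeomIrredComp f (C.pt L (spt L)) := fun L _ _ _ => by
    rw [nGeomIrredComp_eq_card f (C.pt L)]
    exact encard_irreducibleComponents_iso (pullbackLeftPullbackSndIso f C.ι (sp C.R L))
  refine ⟨C.D c, C.mem_D hc, fun y hy => ?_⟩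
  obtain ⟨_, hpt⟩ := C.exists_pt (acPt y) (by rw [acPt_apply]; exact C.D_le c hy)
  have hy' : algebraMap C.R (AlgebraicClosure (Y.residueField y)) c ≠ 0 := by
    rw [← C.pt_mem_D, hpt, acPt_apply]
    exact hy
  have h := hcard (AlgebraicClosure (Y.residueField y)) hy'
  rw [hiso, hiso, hpt, acPt_apply] at h
  rw [h, C.pt_eq_of_injective (FaithfulSMul.algebraMap_injective C.R L₀)]

theorem exists_stratum_const_irred (f : X ⟶ Y) [LocallyOfFiniteType f] [QuasiCompact f] (y : Y) :
    ∃ V : Set ↑Y, V ⊆ closure {y} ∧ y ∈ V ∧ IsOpen (Subtype.val ⁻¹' V : Set ↑(closure ({y} : Set ↑Y))) ∧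
      ∀ y' ∈ V, MoreMor.nGeomIrredComp f y' = MoreMor.nGeomIrredComp f y := by
  obtain ⟨Z, _, _, i, _, hy, hr⟩ := exists_closurePoint y
  haveI : LocallyOfFiniteType (pullback.snd f i) := inferInstance
  haveI : QuasiCompact (pullback.snd f i) := inferInstance
  obtain ⟨W, hη, hW⟩ := exists_open_const_irred (pullback.snd f i)
  have hbc : ∀ z, MoreMor.nGeomIrredComp (pullback.snd f i) z = MoreMor.nGeomIrredComp f (i z) :=
    fun z => (Triage.GeomCount.nGeom_baseChange f _ (pullback.fst f i) i (IsPullback.of_hasPullback f i) z).1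
  refine ⟨i '' (W : Set Z), (Set.image_subset_range _ _).trans hr.le, ⟨_, hη, hy⟩, ?_, ?_⟩
  · obtain ⟨O, hO, hOW⟩ := i.isEmbedding.isInducing.isOpen_iff.1 W.isOpen
    have : (Subtype.val ⁻¹' (i '' (W : Set Z)) : Set ↑(closure ({y} : Set ↑Y))) = Subtype.val ⁻¹' O := by
      ext ⟨w, hw⟩
      obtain ⟨z, rfl⟩ := hr.ge hw
      rw [← hOW]
      exact ⟨fun ⟨z', hz', he⟩ => i.isEmbedding.injective (he : i z' = i z) ▸ hz', fun h => ⟨z, h, rfl⟩⟩
    rw [this]
    exact hO.preimage continuous_subtype_val
  · rintro _ ⟨z, hz, rfl⟩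
    rw [← hbc, hW z hz, hbc, hy]

theorem isConstructible_level_irred [IsNoetherian Y] (f : X ⟶ Y) [LocallyOfFiniteType f] [QuasiCompact f] (n : ℕ∞) :
    IsConstructible {y : Y | MoreMor.nGeomIrredComp f y = n} :=
  ConsPropLib.isConstructible_of_dichotomy _ fun T j _ _ _ => by
    obtain ⟨W, hη, hW⟩ := exists_open_const_irred (pullback.snd f j)
    have hbc : ∀ t, MoreMor.nGeomIrredComp (pullback.snd f j) t = MoreMor.nGeomIrredComp f (j t) :=
      fun t => (Triage.GeomCount.nGeom_baseChange f _ (pullback.fst f j) j (IsPullback.of_hasPullback f j) t).1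
    have hj : ∀ t ∈ W, MoreMor.nGeomIrredComp f (j t) = MoreMor.nGeomIrredComp f (j (genericPoint ↑T)) :=
      fun t ht => by rw [← hbc, hW t ht, hbc]
    by_cases h : MoreMor.nGeomIrredComp f (j (genericPoint ↑T)) = n
    · left
      exact ⟨_, mem_interior.2 ⟨W, fun t ht => show _ = n from (hj t ht).trans h, W.isOpen, hη⟩⟩
    · right
      exact ⟨_, mem_interior.2 ⟨W, fun t ht (e : _ = n) => h ((hj t ht).symm.trans e), W.isOpen, hη⟩⟩

theorem isLocallyConstructible_level_irred (f : X ⟶ Y) [LocallyOfFinitePresentation f] [QuasiCompact f] [QuasiSeparated f]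
    (n : ℕ∞) : IsLocallyConstructible {y : Y | MoreMor.nGeomIrredComp f y = n} :=
  ConsPropLib.lc_of_affine fun V hV => by
    haveI : IsAffine V.toScheme := hV
    let fV := pullback.snd f V.ι
    obtain ⟨S₀, X₀, _, π, u₀, _, qX, _, hS₀, -, hl, hqc, -, -, sq, -⟩ := ConsPropLib.exists_model_pair fV fV
    haveI := hS₀; haveI := hl; haveI := hqc
    have e : (V.ι ⁻¹' {y : Y | MoreMor.nGeomIrredComp f y = n} : Set V.toScheme) =
        π ⁻¹' {y | MoreMor.nGeomIrredComp u₀ y = n} := by
      ext v
      show MoreMor.nGeomIrredComp f (V.ι v) = n ↔ MoreMor.nGeomIrredComp u₀ (π v) = n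
      rw [← (Triage.GeomCount.nGeom_baseChange f fV (pullback.fst f V.ι) V.ι (IsPullback.of_hasPullback f V.ι) v).1,
        (Triage.GeomCount.nGeom_baseChange u₀ fV qX π sq v).1]
    rw [e]
    exact isConstructible_preimage_hom π (isConstructible_level_irred u₀ n)

end Groth.Agent.H1Spread
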