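import Groth.Agent.H1Spread.Pieces
import Groth.Agent.FlatMisc.GenFlat
import Groth.Agent.H1Near.Geom
import Groth.Agent.GeomConn5.Point
import Groth.Agent.GeomConn5.Count
import Groth.Prelude.Def_MoreMor
import Mathlib

/-!
# Connected components of fibres near the generic point of the base
-/

universe u

set_option backward.isDefEq.respectTransparency false
set_option backward.isDefEq.respectTransparency.types false
set_option maxHeartbeats 1000000

open AlgebraicGeometry CategoryTheory CategoryTheory.Limits TopologicalSpace IsLocalRing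

noncomputable section

namespace Groth.Agent.H1Spread
open Groth.Agent.H1Near

variable {X Y : Scheme.{u}}

/-- The number of geometric connected components of a fibre, over any algebraically closed field. -/
theorem nGeomConnComp_eq_card (f : X ⟶ Y) {F : Type u} [Field F] [IsAlgClosed F]
    (τ : Spec (CommRingCat.of F) ⟶ Y) :
    MoreMor.nGeomConnComp f (τ (spt F)) = ENat.card (_root_.ConnectedComponents ↥(pullback f τ)) := by
  rw [← (Triage.GeomCount.nGeom_baseChange f (pullback.snd f τ)
    (pullback.fst f τ) τ (IsPullback.of_hasPullback f τ) (spt F)).2]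
  let p := pullback.snd f τ
  let S := Spec (CommRingCat.of F)
  let Ω := SeparableClosure (S.residueField (spt F))
  let b : Spec (CommRingCat.of Ω) ⟶ S :=
    Spec.map (CommRingCat.ofHom (algebraMap (S.residueField (spt F)) Ω)) ≫ S.fromSpecResidueField (spt F)
  obtain ⟨φ, hφ⟩ := Spec.map_surjective b
  letI : Algebra F Ω := φ.hom.toAlgebra
  haveI : GeometricallyConnected b := by
    rw [← hφ]
    exact GeomConn5.geometricallyConnected_spec_field F Ω fun x hx =>
      Triage.GeomCount.range_of_sepClosed F Ω x hx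
  haveI : UniversallyOpen b := by rw [← hφ]; exact VarGeom.universallyOpen_of_field _
  haveI : Surjective b := ⟨fun s => ⟨spt Ω, Subsingleton.elim (α := PrimeSpectrum F) _ _⟩⟩
  let E := (pullbackLeftPullbackSndIso p (S.fromSpecResidueField (spt F))
      (Spec.map (CommRingCat.ofHom (algebraMap (S.residueField (spt F)) Ω)))).schemeIsoToHomeo
  let q := pullback.fst p b
  refine (Triage.GeomCount.card_connectedComponents_eq E E.continuous E.surjective
    fun w => E.isPreconnected_preimage.2 isPreconnected_connectedComponent).trans ?_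
  exact Triage.GeomCount.card_connectedComponents_eq q q.continuous q.surjective fun w =>
    (q.isConnected_preimage q.isOpenMap isConnected_connectedComponent isClosed_connectedComponent).isPreconnected

/-- The number of geometric connected components is constant near the generic point. -/
theorem exists_open_const [IrreducibleSpace ↑Y] (f : X ⟶ Y) [LocallyOfFiniteType f] [QuasiCompact f] :
    ∃ W : Y.Opens, genericPoint ↑Y ∈ W ∧
      ∀ y ∈ W, MoreMor.nGeomConnComp f y = MoreMor.nGeomConnComp f (genericPoint ↑Y) := by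
  obtain ⟨C⟩ := FlatMisc.GenericReduction.exists_chart f
  let L₀ := AlgebraicClosure (FractionRing C.R)
  haveI : FaithfulSMul C.R L₀ := (faithfulSMul_iff_algebraMap_injective _ _).2 (by
    rw [IsScalarTower.algebraMap_eq C.R (FractionRing C.R) L₀]
    exact (algebraMap (FractionRing C.R) L₀).injective.comp (IsFractionRing.injective C.R (FractionRing C.R)))
  haveI : Algebra.IsAlgebraic C.R L₀ :=
    (IsFractionRing.comap_isAlgebraic_iff (A := C.R) (K := FractionRing C.R) (C := L₀)).2 inferInstance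
  haveI : LocallyOfFiniteType (pullback.snd f C.ι) := MorphismProperty.pullback_snd _ _ ‹_›
  haveI : QuasiCompact (pullback.snd f C.ι) := MorphismProperty.pullback_snd _ _ ‹_›
  obtain ⟨c, hc, hcard⟩ := exists_card_near (pullback.snd f C.ι) L₀
  have hiso : ∀ (L : Type u) [Field L] [IsAlgClosed L] [Algebra C.R L],
      ENat.card (_root_.ConnectedComponents ↥(pullback (pullback.snd f C.ι) (sp C.R L))) =
        MoreMor.nGeomConnComp f (C.pt L (spt L)) := fun L _ _ _ => by
    rw [nGeomConnComp_eq_card f (C.pt L)]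
    exact card_connectedComponents_iso (pullbackLeftPullbackSndIso f C.ι (sp C.R L))
  refine ⟨C.D c, C.mem_D hc, fun y hy => ?_⟩
  obtain ⟨_, hpt⟩ := C.exists_pt (acPt y) (by rw [acPt_apply]; exact C.D_le c hy)
  have hy' : algebraMap C.R (AlgebraicClosure (Y.residueField y)) c ≠ 0 := by
    rw [← C.pt_mem_D, hpt, acPt_apply]
    exact hy
  have h := hcard (AlgebraicClosure (Y.residueField y)) hy'
  rw [hiso, hiso, hpt, acPt_apply] at h
  rw [h, C.pt_eq_of_injective (FaithfulSMul.algebraMap_injective C.R L₀)]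

theorem isEmpty_fibre_of_eq_zero (f : X ⟶ Y) (y : Y) (h : MoreMor.nGeomConnComp f y = 0) :
    f ⁻¹' {y} = ∅ := by
  refine Set.eq_empty_of_forall_notMem fun x hx => ?_
  have hne : Nonempty ↥(MoreMor.geomFiber f y) := by
    obtain ⟨w, -⟩ := (pullback.fst (f.fiberToSpecResidueField y)
      (Spec.map (CommRingCat.ofHom (algebraMap (Y.residueField y) (SeparableClosure (Y.residueField y)))))).surjective
      ((f.fiberHomeo y).symm ⟨x, hx⟩)
    exact ⟨w⟩
  rw [MoreMor.nGeomConnComp, ENat.card_eq_zero_iff_empty] at h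
  obtain ⟨w⟩ := hne
  exact h.false (ConnectedComponents.mk w)

theorem nGeomConnComp_eq_zero (f : X ⟶ Y) (y : Y) (h : f ⁻¹' {y} = ∅) : MoreMor.nGeomConnComp f y = 0 := by
  rw [MoreMor.nGeomConnComp, ENat.card_eq_zero_iff_empty]
  refine ⟨fun c => ?_⟩
  obtain ⟨w, rfl⟩ := ConnectedComponents.surjective_coe c
  have hw := (f.fiberHomeo y (pullback.fst (f.fiberToSpecResidueField y)
    (Spec.map (CommRingCat.ofHom (algebraMap (Y.residueField y) (SeparableClosure (Y.residueField y))))) w)).2
  exact Set.eq_empty_iff_forall_notMem.1 h _ hw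

theorem isPreconnected_fibre_of_eq_one (f : X ⟶ Y) (y : Y) (h : MoreMor.nGeomConnComp f y = 1) :
    _root_.IsPreconnected (f ⁻¹' {y}) := by
  obtain ⟨hu⟩ := (ENat.card_eq_one_iff_unique).1 h
  haveI : Subsingleton (_root_.ConnectedComponents ↥(MoreMor.geomFiber f y)) := @Unique.instSubsingleton _ hu
  haveI : PreconnectedSpace ↥(MoreMor.geomFiber f y) := by
    refine preconnectedSpace_iff_connectedComponent.2 fun w => Set.eq_univ_of_forall fun z => ?_
    exact ConnectedComponents.coe_eq_coe'.1 (Subsingleton.elim _ _)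
  let q : ↥(MoreMor.geomFiber f y) → X := (pullback.fst (f.fiberToSpecResidueField y)
    (Spec.map (CommRingCat.ofHom (algebraMap (Y.residueField y) (SeparableClosure (Y.residueField y)))))) ≫ f.fiberι y
  have hq : Set.range q = f ⁻¹' {y} := by
    rw [← f.range_fiberι y]
    show Set.range (_ ≫ f.fiberι y : _ ⟶ X) = _
    rw [Scheme.Hom.comp_base, TopCat.coe_comp]
    exact Function.Surjective.range_comp (Scheme.Hom.surjective _) _
  rw [← hq, ← Set.image_univ]
  exact isPreconnected_univ.image _ (Scheme.Hom.continuous _).continuousOn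

/-- A connected fibre with a rational point is geometrically connected. -/
theorem nGeomConnComp_eq_one_of_point (f : X ⟶ Y) (y : Y) (hc : _root_.IsConnected (f ⁻¹' {y}))
    (σ : Spec (Y.residueField y) ⟶ X) (hσ : σ ≫ f = Y.fromSpecResidueField y) :
    MoreMor.nGeomConnComp f y = 1 := by
  let p : f.fiber y ⟶ Spec (CommRingCat.of (Y.residueField y)) := f.fiberToSpecResidueField y
  letI : (f.fiber y).Over (Spec (CommRingCat.of (Y.residueField y))) := ⟨p⟩
  haveI : ConnectedSpace ↥(f.fiber y) := by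
    haveI := isConnected_iff_connectedSpace.1 hc
    exact (f.fiberHomeo y).symm.surjective.connectedSpace (f.fiberHomeo y).symm.continuous
  let σ' : Spec (CommRingCat.of (Y.residueField y)) ⟶ f.fiber y :=
    pullback.lift σ (𝟙 _) (by rw [hσ, Category.id_comp])
  have hσ' : σ' ≫ p = 𝟙 (Spec (CommRingCat.of (Y.residueField y))) := pullback.lift_snd _ _ _
  obtain ⟨φ, hφ⟩ := exists_desc (K := Y.residueField y) σ' (rfl : σ' (spt _) = σ' (spt _))
  haveI : GeometricallyConnected p := GeomConn5.geometricallyConnected_of_separably_closed_point (k := Y.residueField y) (X := f.fiber y) (σ' (spt _))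
    fun a _ => by
      have hid : φ.hom.comp (Curv2.resMap (Y.residueField y) (f.fiber y) (σ' (spt _))) = RingHom.id _ := by
        have h1 : Spec.map φ ≫ (f.fiber y).fromSpecResidueField (σ' (spt _)) ≫ p = Spec.map (𝟙 _) := by
          rw [← Category.assoc, hφ, hσ', Spec.map_id]
        rw [show (f.fiber y).fromSpecResidueField (σ' (spt _)) ≫ p =
          Spec.map (CommRingCat.ofHom (Curv2.resMap (Y.residueField y) (f.fiber y) (σ' (spt _)))) from
          GeomConn5.spec_resMap (k := Y.residueField y) (X := f.fiber y) _, ← Spec.map_comp] at h1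
        exact congrArg CommRingCat.Hom.hom (Spec.map_injective h1)
      exact ⟨φ.hom a, φ.hom.injective (RingHom.congr_fun hid _)⟩
  haveI : ConnectedSpace ↥(MoreMor.geomFiber f y) :=
    GeometricallyConnected.geometrically_connectedSpace _ _ _ (IsPullback.of_hasPullback _ _)
  obtain ⟨w⟩ := (inferInstance : Nonempty ↥(MoreMor.geomFiber f y))
  haveI : Subsingleton (_root_.ConnectedComponents ↥(MoreMor.geomFiber f y)) := ⟨fun a b => by
    obtain ⟨a, rfl⟩ := ConnectedComponents.surjective_coe a
    obtain ⟨b, rfl⟩ := ConnectedComponents.surjective_coe b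
    refine ConnectedComponents.coe_eq_coe'.2 ?_
    rw [PreconnectedSpace.connectedComponent_eq_univ]
    trivial⟩
  exact ENat.card_eq_one_iff_unique.2 ⟨uniqueOfSubsingleton (ConnectedComponents.mk w)⟩

/-- A closed subset avoiding the generic fibre avoids the nearby fibres. -/
theorem exists_open_avoid [IrreducibleSpace ↑Y] (f : X ⟶ Y) [LocallyOfFiniteType f] [QuasiCompact f]
    (Z : Closeds ↑X) (h : ∀ x ∈ Z, f x ≠ genericPoint ↑Y) :
    ∃ W : Y.Opens, genericPoint ↑Y ∈ W ∧ ∀ x ∈ Z, f x ∉ W := by
  let i := (Scheme.IdealSheafData.vanishingIdeal Z).subschemeι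
  have hr : Set.range i = Z := by
    rw [Scheme.IdealSheafData.range_subschemeι, Scheme.IdealSheafData.coe_support_vanishingIdeal]
  obtain ⟨W, hη, hW⟩ := exists_open_const (i ≫ f)
  refine ⟨W, hη, fun x hx hxW => ?_⟩
  obtain ⟨z, rfl⟩ := hr.ge hx
  have h0 : MoreMor.nGeomConnComp (i ≫ f) (genericPoint ↑Y) = 0 :=
    nGeomConnComp_eq_zero _ _ (Set.eq_empty_of_forall_notMem fun w hw =>
      h (i w) (hr.le ⟨w, rfl⟩) (by rw [← Scheme.Hom.comp_apply]; exact hw))
  have h1 := isEmpty_fibre_of_eq_zero (i ≫ f) (f (i z)) (by rw [hW _ hxW, h0])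
  exact Set.notMem_empty z (h1.le (Scheme.Hom.comp_apply _ _ _))

/-- The generic fibre is dense over an open. -/
theorem exists_open_dense_fibre [IrreducibleSpace ↑Y] [IsReduced Y] (f : X ⟶ Y) [LocallyOfFiniteType f]
    [QuasiCompact f] : ∃ W : Y.Opens, genericPoint ↑Y ∈ W ∧
      ∀ x, f x ∈ W → x ∈ closure (f ⁻¹' {genericPoint ↑Y}) := by
  obtain ⟨W, hWne, -, hfl, -⟩ := FlatMisc.exists_flat_open f ⊤ ⟨genericPoint ↑Y, trivial⟩
  have hη : genericPoint ↑Y ∈ W := ((genericPoint_spec ↑Y).mem_open_set_iff W.isOpen).2 (by simpa using hWne)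
  refine ⟨W, hη, fun x hx => ?_⟩
  haveI := hfl
  let η' : ↥(W : Y.Opens).toScheme := ⟨genericPoint ↑Y, hη⟩
  have hsp : η' ⤳ (f ∣_ W) ⟨x, hx⟩ := by
    rw [subtype_specializes_iff]
    exact (genericPoint_spec ↑Y).specializes (Set.mem_univ _)
  obtain ⟨x', hx'sp, hx'⟩ := (Flat.generalizingMap (f := f ∣_ W)) hsp
  have h1 : x'.1 ⤳ x := (subtype_specializes_iff _ _).1 hx'sp
  refine h1.mem_closed isClosed_closure (subset_closure ?_)
  show f x'.1 = genericPoint ↑Y
  have := congrArg Subtype.val hx'
  exact ((morphismRestrict_base_coe f W x').symm).trans this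

/-- The section components are open and closed over a neighbourhood of the generic point. -/
theorem exists_open_clopen [IrreducibleSpace ↑Y] [IsReduced Y] (f : X ⟶ Y) [LocallyOfFiniteType f] [QuasiCompact f]
    (s : Y ⟶ X) (hs : s ≫ f = 𝟙 Y) : ∃ W : Y.Opens, genericPoint ↑Y ∈ W ∧
      IsClopen (Subtype.val ⁻¹' MoreMor.sectionComponents f s : Set ↑(f ⁻¹' (W : Set Y))) := by
  set η := genericPoint ↑Y
  have hfs : ∀ y, f (s y) = y := fun y => by rw [← Scheme.Hom.comp_apply, hs]; rfl
  let F := f ⁻¹' {η}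
  let C := connectedComponentIn F (s η)
  have hsη : s η ∈ F := hfs η
  let D := F \ C
  haveI : LocallyOfFiniteType (f.fiberToSpecResidueField η) := MorphismProperty.pullback_snd _ _ ‹_›
  haveI : QuasiCompact (f.fiberToSpecResidueField η) := MorphismProperty.pullback_snd _ _ ‹_›
  haveI : IsLocallyNoetherian (f.fiber η) := LocallyOfFiniteType.isLocallyNoetherian (f.fiberToSpecResidueField η)
  haveI : CompactSpace ↥(f.fiber η) := QuasiCompact.compactSpace_of_compactSpace (f.fiberToSpecResidueField η)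
  haveI : IsNoetherian (f.fiber η) := {}
  haveI : NoetherianSpace F := noetherianSpace_of_surjective (f.fiberHomeo η) (f.fiberHomeo η).continuous
    (f.fiberHomeo η).surjective
  have hCeq : C = Subtype.val '' connectedComponent (⟨s η, hsη⟩ : F) := connectedComponentIn_eq_image hsη
  have hCcl : IsClosed (connectedComponent (⟨s η, hsη⟩ : F)) := isClosed_connectedComponent
  have hCop : IsOpen (connectedComponent (⟨s η, hsη⟩ : F)) := by
    rw [← isClosed_compl_iff]
    have h : (connectedComponent (⟨s η, hsη⟩ : F))ᶜ =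
        ⋃ Z ∈ {Z | Z ∈ irreducibleComponents F ∧ ¬ Z ⊆ connectedComponent (⟨s η, hsη⟩ : F)}, Z := by
      ext z
      simp only [Set.mem_iUnion₂, Set.mem_compl_iff]
      constructor
      · intro hz
        exact ⟨irreducibleComponent z, ⟨irreducibleComponent_mem_irreducibleComponents z, fun h => hz (h mem_irreducibleComponent)⟩, mem_irreducibleComponent⟩
      · rintro ⟨Z, ⟨hZ, hZC⟩, hzZ⟩ hzC
        refine hZC ?_
        rw [connectedComponent_eq hzC]
        exact hZ.1.isPreirreducible.isPreconnected.subset_connectedComponent hzZ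
    rw [h]
    exact ((NoetherianSpace.finite_irreducibleComponents).subset fun Z hZ => hZ.1).isClosed_biUnion
      fun Z hZ => isClosed_of_mem_irreducibleComponents Z hZ.1
  have hC : closure C ∩ F ⊆ C := by
    rintro x ⟨hx, hxF⟩
    rw [hCeq] at hx ⊢
    exact ⟨⟨x, hxF⟩, hCcl.closure_eq ▸ closure_subtype.2 hx, rfl⟩
  have hD : closure D ∩ F ⊆ D := by
    rintro x ⟨hx, hxF⟩
    refine ⟨hxF, fun hxC => ?_⟩
    rw [hCeq] at hxC
    obtain ⟨x', hx', rfl⟩ := hxC
    have hD' : D = Subtype.val '' (connectedComponent (⟨s η, hsη⟩ : F))ᶜ := by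
      ext z
      constructor
      · rintro ⟨hz, hz'⟩
        exact ⟨⟨z, hz⟩, fun h => hz' (hCeq ▸ ⟨_, h, rfl⟩), rfl⟩
      · rintro ⟨z', hz', rfl⟩
        refine ⟨z'.2, fun h => ?_⟩
        rw [hCeq] at h
        obtain ⟨z'', h1, h2⟩ := h
        exact hz' (Subtype.ext h2 ▸ h1)
    rw [hD'] at hx
    exact absurd hx' (hCop.isClosed_compl.closure_subset (closure_subtype.2 hx))
  obtain ⟨W₁, hη₁, hW₁⟩ := exists_open_dense_fibre f
  obtain ⟨W₂, hη₂, hW₂⟩ := exists_open_avoid f ⟨closure C ∩ closure D, isClosed_closure.inter isClosed_closure⟩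
    fun x hx hxη => (hD ⟨hx.2, hxη⟩).2 (hC ⟨hx.1, hxη⟩)
  let W := W₁ ⊓ W₂
  have hηW : η ∈ W := ⟨hη₁, hη₂⟩
  have hcover : ∀ x, f x ∈ W → x ∈ closure C ∨ x ∈ closure D := fun x hx => by
    have := closure_mono (show F ⊆ C ∪ D from fun z hz => by
      by_cases h : z ∈ C
      · exact Or.inl h
      · exact Or.inr ⟨hz, h⟩) (hW₁ x hx.1)
    rwa [closure_union] at this
  have hdisj : ∀ x, f x ∈ W → x ∈ closure C → x ∉ closure D := fun x hx hxC hxD => hW₂ x ⟨hxC, hxD⟩ hx.2
  -- the open piece
  let f₁ := f ∣_ W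
  let O : (f ⁻¹ᵁ W).toScheme.Opens := ⟨Subtype.val ⁻¹' (closure D)ᶜ, isClosed_closure.isOpen_compl.preimage continuous_subtype_val⟩
  have hO : ∀ x : ↥(f ⁻¹ᵁ W).toScheme, x ∈ O ↔ x.1 ∈ closure C := fun x =>
    ⟨fun h => (hcover x.1 x.2).resolve_right h, fun h => hdisj x.1 x.2 h⟩
  haveI : IsClosedImmersion O.ι := IsClosedImmersion.of_isPreimmersion _ (by
    rw [Scheme.Opens.range_ι]
    have e : (O : Set ↥(f ⁻¹ᵁ W).toScheme) = Subtype.val ⁻¹' closure C := Set.ext hO
    rw [e]
    exact isClosed_closure.preimage continuous_subtype_val)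
  let h := O.ι ≫ f₁
  have hhv : ∀ a, (h a).1 = f (O.ι a).1 := fun a =>
    (congrArg Subtype.val (Scheme.Hom.comp_apply _ _ _)).trans (morphismRestrict_base_coe f W (O.ι a))
  -- fibres of the piece
  have hfib : ∀ w : ↥W.toScheme, (fun a => (O.ι a).1) '' (h ⁻¹' {w}) = closure C ∩ f ⁻¹' {w.1} := by
    intro w
    ext x
    constructor
    · rintro ⟨a, ha, rfl⟩
      exact ⟨(hO _).1 a.2, (hhv a).symm.trans (congrArg Subtype.val ha)⟩
    · rintro ⟨hxC, hxw⟩
      have hxW : f x ∈ W := (show f x = w.1 from hxw) ▸ w.2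
      refine ⟨⟨⟨x, hxW⟩, (hO _).2 hxC⟩, Subtype.ext ?_, rfl⟩
      exact (hhv _).trans hxw
  haveI : IrreducibleSpace ↥W.toScheme := by
    haveI : Nonempty ↥W.toScheme := ⟨⟨η, hηW⟩⟩
    exact { toPreirreducibleSpace := (Subtype.preirreducibleSpace ((PreirreducibleSpace.isPreirreducible_univ (X := ↥Y)).open_subset W.isOpen (Set.subset_univ _)))
            toNonempty := inferInstance }
  have hgp : (genericPoint ↥W.toScheme).1 = η := by
    have hg : IsGenericPoint (⟨η, hηW⟩ : ↥W.toScheme) Set.univ := Set.eq_univ_of_forall fun z =>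
      ((subtype_specializes_iff (⟨η, hηW⟩ : ↥W.toScheme) z).2 ((genericPoint_spec ↑Y).specializes (Set.mem_univ z.1))).mem_closure
    exact congrArg Subtype.val ((genericPoint_spec ↥W.toScheme).eq hg)
  have hemb : Topology.IsInducing fun a : ↥O.toScheme => (O.ι a).1 :=
    Topology.IsInducing.subtypeVal.comp O.ι.isOpenEmbedding.isInducing
  have hone : MoreMor.nGeomConnComp h (genericPoint ↥W.toScheme) = 1 := by
    have hsW : s η ∈ closure C := subset_closure (mem_connectedComponentIn hsη)
    let t : Spec (W.toScheme.residueField (genericPoint ↥W.toScheme)) ⟶ X :=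
      W.toScheme.fromSpecResidueField _ ≫ W.ι ≫ s
    have htr : ∀ q, t q = s η := fun q => by
      simp only [t, Scheme.Hom.comp_apply, Scheme.fromSpecResidueField_apply]
      exact congrArg s hgp
    let t₁ := IsOpenImmersion.lift (f ⁻¹ᵁ W).ι t (by
      rintro _ ⟨q, rfl⟩
      rw [htr, Scheme.Opens.range_ι]
      show f (s η) ∈ W
      rw [hfs]; exact hηW)
    let t₂ := IsOpenImmersion.lift O.ι t₁ (by
      rintro _ ⟨q, rfl⟩
      rw [Scheme.Opens.range_ι]
      refine (hO _).2 ?_
      have e : (f ⁻¹ᵁ W).ι (t₁ q) = t q := by rw [← Scheme.Hom.comp_apply, IsOpenImmersion.lift_fac]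
      rw [htr] at e
      have e' : (t₁ q).1 = s η := e
      rw [e']
      exact hsW)
    refine nGeomConnComp_eq_one_of_point h _ ⟨?_, ?_⟩ t₂ ?_
    · obtain ⟨x, hx, -⟩ := (hfib (genericPoint ↥W.toScheme)).ge ⟨hsW, by rw [Set.mem_preimage, Set.mem_singleton_iff, hfs, hgp]⟩
      exact ⟨x, hx⟩
    · refine hemb.isPreconnected_image.1 ?_
      rw [hfib, hgp, show closure C ∩ f ⁻¹' {η} = C from Set.Subset.antisymm hC
        fun x hx => ⟨subset_closure hx, connectedComponentIn_subset _ _ hx⟩]
      exact isPreconnected_connectedComponentIn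
    · rw [IsOpenImmersion.lift_fac_assoc, ← cancel_mono W.ι, Category.assoc, morphismRestrict_ι,
        IsOpenImmersion.lift_fac_assoc]
      simp only [t, Category.assoc, hs, Category.comp_id]
  haveI : LocallyOfFiniteType f₁ := inferInstance
  haveI : QuasiCompact f₁ := inferInstance
  obtain ⟨W₃, hη₃, hW₃⟩ := exists_open_const h
  refine ⟨W.ι ''ᵁ W₃, ⟨genericPoint ↥W.toScheme, hη₃, hgp⟩, ?_⟩
  have hle : ∀ x, f x ∈ W.ι ''ᵁ W₃ → f x ∈ W := fun x ⟨w, _, hw⟩ => hw ▸ w.2
  have key : ∀ x, f x ∈ W.ι ''ᵁ W₃ → (x ∈ MoreMor.sectionComponents f s ↔ x ∈ closure C) := by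
    intro x hx
    obtain ⟨w, hw3, hw⟩ := hx
    have hwx : f x = w.1 := hw.symm
    have hpre : IsPreconnected (closure C ∩ f ⁻¹' {f x}) := by
      rw [hwx, ← hfib w]
      exact (isPreconnected_fibre_of_eq_one h w (by rw [hW₃ w hw3, hone])).image _ hemb.continuous.continuousOn
    have hsC : s (f x) ∈ closure C := by
      have h1 : s η ⤳ s (f x) := ((genericPoint_spec ↑Y).specializes (Set.mem_univ _)).map s.continuous
      exact h1.mem_closed isClosed_closure (subset_closure (mem_connectedComponentIn hsη))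
    constructor
    · intro hxs
      by_contra hxC
      have hsub : connectedComponentIn (f ⁻¹' {f x}) (s (f x)) ⊆ closure C ∪ closure D := fun z hz =>
        hcover z (by
          have : z ∈ f ⁻¹' {f x} := connectedComponentIn_subset _ _ hz
          rw [show f z = f x from this]; exact hwx ▸ w.2)
      obtain ⟨z, hz, hzC, hzD⟩ := isPreconnected_closed_iff.1 isPreconnected_connectedComponentIn _ _
        isClosed_closure isClosed_closure hsub ⟨_, mem_connectedComponentIn (hfs _), hsC⟩
        ⟨x, hxs, (hcover x (hwx ▸ w.2)).resolve_left hxC⟩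
      exact hdisj z (by
        have : z ∈ f ⁻¹' {f x} := connectedComponentIn_subset _ _ hz
        rw [show f z = f x from this]; exact hwx ▸ w.2) hzC hzD
    · intro hxC
      exact hpre.subset_connectedComponentIn ⟨hsC, hfs _⟩ Set.inter_subset_right ⟨hxC, rfl⟩
  constructor
  · convert (isClosed_closure (s := C)).preimage (continuous_subtype_val (p := (· ∈ f ⁻¹' ((W.ι ''ᵁ W₃ : Y.Opens) : Set Y)))) using 1
    ext x
    exact key x.1 x.2
  · convert (isClosed_closure (s := D)).isOpen_compl.preimage (continuous_subtype_val (p := (· ∈ f ⁻¹' ((W.ι ''ᵁ W₃ : Y.Opens) : Set Y)))) using 1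
    ext x
    exact (key x.1 x.2).trans ⟨fun h => hdisj x.1 (hle _ x.2) h, fun h => (hcover x.1 (hle _ x.2)).resolve_right h⟩

end Groth.Agent.H1Spread
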