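import Groth.Agent.H1Spread.Domain

/-!
# Properties of ideals defined over a domain, in geometric fibres near the generic point
-/

universe u

open TensorProduct

noncomputable section

namespace Groth.Agent.H1Spread

/-- The extension of an ideal to a geometric fibre. -/
abbrev fibI (R : Type u) [CommRing R] (L : Type u) [CommRing L] [Algebra R L] {B : Type u} [CommRing B]
    [Algebra R B] (I : Ideal B) : Ideal (L ⊗[R] B) :=
  I.map (Algebra.TensorProduct.includeRight : B →ₐ[R] L ⊗[R] B)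

theorem mem_fibI_iff {R : Type u} [CommRing R] (L : Type u) [CommRing L] [Algebra R L] {B : Type u} [CommRing B]
    [Algebra R B] (I : Ideal B) (z : L ⊗[R] B) :
    z ∈ fibI R L I ↔ Algebra.TensorProduct.map (AlgHom.id R L) (Ideal.Quotient.mkₐ R I) z = 0 := by
  have h := Algebra.TensorProduct.lTensor_ker (A := L) (Ideal.Quotient.mkₐ R I) Ideal.Quotient.mk_surjective
  have hk : RingHom.ker (Ideal.Quotient.mkₐ R I) = I := Ideal.mk_ker
  rw [hk] at h
  rw [← RingHom.mem_ker, h]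

theorem tmul_mem_fibI_iff {R : Type u} [CommRing R] (L : Type u) [CommRing L] [Algebra R L] {B : Type u} [CommRing B]
    [Algebra R B] (I : Ideal B) (b : B) :
    (1 : L) ⊗ₜ[R] b ∈ fibI R L I ↔ (1 : L) ⊗ₜ[R] (Ideal.Quotient.mk I b) = 0 := by
  rw [mem_fibI_iff, Algebra.TensorProduct.map_tmul]
  rfl

theorem isPrime_fibI_iff {R : Type u} [CommRing R] (L : Type u) [CommRing L] [Algebra R L] {B : Type u} [CommRing B]
    [Algebra R B] (I : Ideal B) : (fibI R L I).IsPrime ↔ IsDomain (L ⊗[R] (B ⧸ I)) := by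
  let q : L ⊗[R] B →ₐ[R] L ⊗[R] (B ⧸ I) := Algebra.TensorProduct.map (AlgHom.id R L) (Ideal.Quotient.mkₐ R I)
  have hq : Function.Surjective q :=
    LinearMap.lTensor_surjective L (g := (Ideal.Quotient.mkₐ R I).toLinearMap) Ideal.Quotient.mk_surjective
  have hk : RingHom.ker q.toRingHom = fibI R L I := Ideal.ext fun z => (mem_fibI_iff L I z).symm
  rw [← hk, ← Ideal.Quotient.isDomain_iff_prime]
  let e := RingHom.quotientKerEquivOfSurjective (f := q.toRingHom) hq
  exact ⟨fun _ => MulEquiv.isDomain _ e.symm.toMulEquiv, fun _ => MulEquiv.isDomain _ e.toMulEquiv⟩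

variable {R : Type u} [CommRing R] [IsDomain R] {L₀ : Type u} [Field L₀] [Algebra R L₀] [FaithfulSMul R L₀]
  {B : Type u} [CommRing B] [Algebra R B] [Algebra.FiniteType R B]

/-- Torsion in the fibre over the generic point stays torsion nearby. -/
theorem tmul_mem_fibI_near (L₀ : Type u) [Field L₀] [Algebra R L₀] [FaithfulSMul R L₀] (I : Ideal B) :
    Near R (fun L => ∀ b : B, (1 : L₀) ⊗ₜ[R] b ∈ fibI R L₀ I → (1 : L) ⊗ₜ[R] b ∈ fibI R L I) := by
  haveI : Algebra.FiniteType R (B ⧸ I) :=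
    Algebra.FiniteType.of_surjective (Ideal.Quotient.mkₐ R I) Ideal.Quotient.mk_surjective
  obtain ⟨c, hc, h⟩ := exists_tmul_eq_zero_near (R := R) (L₀ := L₀) (B ⧸ I)
  refine ⟨c, hc, fun L _ _ _ hL b hb => ?_⟩
  rw [tmul_mem_fibI_iff] at hb ⊢
  exact h L hL _ hb

theorem eq_top_near (L₀ : Type u) [Field L₀] [Algebra R L₀] [FaithfulSMul R L₀] (I : Ideal B)
    (h : fibI R L₀ I = ⊤) : Near R (fun L => fibI R L I = ⊤) :=
  (tmul_mem_fibI_near L₀ I).mono fun L _ _ _ hL => (Ideal.eq_top_iff_one _).2 (hL 1 (by rw [h]; trivial))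

/-- Covering by finitely many finitely generated ideals persists. -/
theorem exists_le_prime_near (L₀ : Type u) [Field L₀] [Algebra R L₀] [FaithfulSMul R L₀] {J : Type u} [Finite J]
    (I : J → Ideal B) (hI : ∀ j, (I j).FG)
    (h : ∀ q : Ideal (L₀ ⊗[R] B), q.IsPrime → ∃ j, fibI R L₀ (I j) ≤ q) :
    Near R (fun L => ∀ q : Ideal (L ⊗[R] B), q.IsPrime → ∃ j, fibI R L (I j) ≤ q) := by
  classical
  haveI := Fintype.ofFinite J
  have hP : (∏ j, I j).FG := Finset.prod_induction _ Submodule.FG (fun a b => Ideal.FG.mul)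
    (by rw [Ideal.one_eq_top]; exact ⟨{1}, by simp⟩) fun j _ => hI j
  obtain ⟨G, hG⟩ := hP
  have hnil : ∀ b : G, ∃ n, (1 : L₀) ⊗ₜ[R] ((b : B) ^ n) ∈ fibI R L₀ (⊥ : Ideal B) := by
    intro b
    have hb : (b : B) ∈ ∏ j, I j := hG ▸ Submodule.subset_span b.2
    have : IsNilpotent ((Algebra.TensorProduct.includeRight : B →ₐ[R] L₀ ⊗[R] B) b) := by
      rw [← mem_nilradical, nilradical_eq_sInf, Submodule.mem_sInf]
      intro q hq
      obtain ⟨j, hj⟩ := h q hq
      exact hj (Ideal.mem_map_of_mem _ (Ideal.prod_le_inf.trans (Finset.inf_le (Finset.mem_univ j)) hb))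
    obtain ⟨n, hn⟩ := this
    refine ⟨n, ?_⟩
    rw [← map_pow, Algebra.TensorProduct.includeRight_apply] at hn
    rw [hn]
    exact Submodule.zero_mem _
  choose n hn using hnil
  refine (tmul_mem_fibI_near L₀ (⊥ : Ideal B)).mono fun L _ _ _ hL q hq => ?_
  have hle : fibI R L (∏ j, I j) ≤ q := by
    rw [← hG, fibI, Ideal.map_span, Ideal.span_le]
    rintro _ ⟨b, hb, rfl⟩
    have h1 := hL _ (hn ⟨b, hb⟩)
    rw [fibI, Ideal.map_bot, Ideal.mem_bot] at h1
    refine hq.mem_of_pow_mem (n ⟨b, hb⟩) ?_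
    rw [← map_pow, Algebra.TensorProduct.includeRight_apply, h1]
    exact q.zero_mem
  rw [fibI, ← Ideal.mapHom_apply, map_prod] at hle
  obtain ⟨j, -, hj⟩ := (hq.prod_le).1 hle
  exact ⟨j, hj⟩

theorem isPrime_near (L₀ : Type u) [Field L₀] [IsAlgClosed L₀] [Algebra R L₀] [FaithfulSMul R L₀]
    [Algebra.IsAlgebraic R L₀] (I : Ideal B) (h : (fibI R L₀ I).IsPrime) :
    Near R (fun L => (fibI R L I).IsPrime) := by
  haveI : Algebra.FiniteType R (B ⧸ I) :=
    Algebra.FiniteType.of_surjective (Ideal.Quotient.mkₐ R I) Ideal.Quotient.mk_surjective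
  haveI := (isPrime_fibI_iff L₀ I).1 h
  exact (exists_isDomain_near (L₀ := L₀) (B ⧸ I)).mono fun L _ _ _ hL => (isPrime_fibI_iff L I).2 hL

end Groth.Agent.H1Spread
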