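import Groth.Agent.GenFreeRed.Main
import Groth.Agent.FlatMisc.SpreadRed
import Mathlib

/-!
# Stages of an algebraic extension of a fraction field, seen from algebraically closed fields

`R` is a domain, `L₀` an algebraically closed field algebraic over it. A property holds near the generic
point when it holds in every algebraically closed field over `R` in which some nonzero element of `R`
stays nonzero.
-/

universe u

open TensorProduct

noncomputable section

namespace Groth.Agent.H1Spread

variable (R : Type u) [CommRing R]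

/-- A property of algebraically closed fields over `R`, true near the generic point. -/
def Near (P : ∀ (L : Type u) [Field L] [IsAlgClosed L] [Algebra R L], Prop) : Prop :=
  ∃ c : R, c ≠ 0 ∧ ∀ (L : Type u) [Field L] [IsAlgClosed L] [Algebra R L], algebraMap R L c ≠ 0 → P L

variable {R} [IsDomain R]

theorem Near.and {P Q : ∀ (L : Type u) [Field L] [IsAlgClosed L] [Algebra R L], Prop}
    (hP : Near R P) (hQ : Near R Q) : Near R (fun L => P L ∧ Q L) := by
  obtain ⟨c, hc, hc'⟩ := hP
  obtain ⟨d, hd, hd'⟩ := hQ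
  refine ⟨c * d, mul_ne_zero hc hd, fun L _ _ _ h => ?_⟩
  rw [map_mul] at h
  exact ⟨hc' L (left_ne_zero_of_mul h), hd' L (right_ne_zero_of_mul h)⟩

theorem Near.mono {P Q : ∀ (L : Type u) [Field L] [IsAlgClosed L] [Algebra R L], Prop}
    (hP : Near R P) (h : ∀ (L : Type u) [Field L] [IsAlgClosed L] [Algebra R L], P L → Q L) : Near R Q := by
  obtain ⟨c, hc, hc'⟩ := hP
  exact ⟨c, hc, fun L _ _ _ hL => h L (hc' L hL)⟩

theorem Near.all {ι : Type*} [Finite ι]
    {P : ι → ∀ (L : Type u) [Field L] [IsAlgClosed L] [Algebra R L], Prop}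
    (hP : ∀ i, Near R (P i)) : Near R (fun L => ∀ i, P i L) := by
  classical
  haveI := Fintype.ofFinite ι
  choose c hc hc' using hP
  refine ⟨∏ i, c i, Finset.prod_ne_zero_iff.2 fun i _ => hc i, fun L _ _ _ hL i => hc' i L fun h => hL ?_⟩
  rw [map_prod]
  exact Finset.prod_eq_zero (Finset.mem_univ i) h

variable {L₀ : Type u} [Field L₀] [Algebra R L₀]

/-- An integral extension has points over every point with values in an algebraically closed field. -/
theorem exists_algHom_integral {R : Type u} [CommRing R] [IsDomain R] (E : Type u) [CommRing E] [Algebra R E]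
    [Algebra.IsIntegral R E] (hE : Function.Injective (algebraMap R E))
    (L : Type u) [Field L] [IsAlgClosed L] [Algebra R L] : Nonempty (E →ₐ[R] L) := by
  let p := RingHom.ker (algebraMap R L)
  haveI : p.IsPrime := RingHom.ker_isPrime _
  obtain ⟨Q, -, hQ, hQp⟩ := Ideal.exists_ideal_over_prime_of_isIntegral p (⊥ : Ideal E) (by
    intro x hx
    rw [hE ((show algebraMap R E x = 0 from hx).trans (map_zero _).symm)]
    exact p.zero_mem)
  haveI := hQ
  haveI : Q.LiesOver p := ⟨hQp.symm⟩
  letI : Algebra (R ⧸ p) L := (RingHom.kerLift (algebraMap R L)).toAlgebra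
  haveI : IsScalarTower R (R ⧸ p) L := IsScalarTower.of_algebraMap_eq fun _ => rfl
  haveI : Module.IsTorsionFree (R ⧸ p) L :=
    Module.isTorsionFree_iff_algebraMap_injective.2 (RingHom.kerLift_injective (algebraMap R L))
  haveI : Module.IsTorsionFree (R ⧸ p) (E ⧸ Q) :=
    Module.isTorsionFree_iff_algebraMap_injective.2 (FaithfulSMul.algebraMap_injective (R ⧸ p) (E ⧸ Q))
  haveI : Algebra.IsAlgebraic (R ⧸ p) (E ⧸ Q) := ⟨fun x => by
    obtain ⟨y, rfl⟩ := Ideal.Quotient.mk_surjective x
    exact (((Algebra.IsIntegral.isIntegral (R := R) y).map (Ideal.Quotient.mkₐ R Q)).tower_top).isAlgebraic⟩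
  exact ⟨((IsAlgClosed.lift : (E ⧸ Q) →ₐ[R ⧸ p] L).restrictScalars R).comp (Ideal.Quotient.mkₐ R Q)⟩

/-- Extending along fractions. -/
theorem exists_algHom_of_fractions {R : Type u} [CommRing R] {E L₀ L : Type u} [CommRing E] [Field L₀] [Field L]
    [Algebra R E] [Algebra R L₀] [Algebra R L] (v : E →ₐ[R] L₀) (hv : Function.Injective v) (χ : E →ₐ[R] L)
    (a : E) (hu : IsUnit (χ a)) (hu₀ : IsUnit (v a)) (S : Subalgebra R L₀) (T : Set L₀)
    (hS : S ≤ Algebra.adjoin R T) (hT : ∀ t ∈ T, ∃ e, v e = v a * t) : Nonempty (S →ₐ[R] L) := by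
  have hua : ∀ {A : Type u} [CommRing A] [Algebra R A] (ψ : E →ₐ[R] A), IsUnit (ψ a) →
      ∀ y : Submonoid.powers a, IsUnit (ψ y) := by
    rintro A _ _ ψ h ⟨_, n, rfl⟩
    rw [map_pow]
    exact h.pow n
  let ι : Localization.Away a →ₐ[R] L₀ :=
    IsLocalization.liftAlgHom (M := Submonoid.powers a) (f := v) (hua _ hu₀)
  let χ' : Localization.Away a →ₐ[R] L :=
    IsLocalization.liftAlgHom (M := Submonoid.powers a) (f := χ) (hua _ hu)
  have hι : Function.Injective ι := by
    refine (injective_iff_map_eq_zero _).2 fun z hz => ?_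
    obtain ⟨e, y, rfl⟩ := IsLocalization.exists_mk'_eq (Submonoid.powers a) z
    rw [IsLocalization.coe_liftAlgHom, IsLocalization.lift_mk'_spec, mul_zero] at hz
    exact (IsLocalization.mk'_eq_zero_iff _ _).2 ⟨1, by rw [hv (hz.trans (map_zero v).symm), mul_zero]⟩
  have hT' : S ≤ ι.range := hS.trans (Algebra.adjoin_le fun t ht => by
    obtain ⟨e, he⟩ := hT t ht
    refine ⟨IsLocalization.mk' (M := Submonoid.powers a) _ e ⟨a, 1, pow_one a⟩, ?_⟩
    show ι _ = t
    rw [IsLocalization.coe_liftAlgHom, IsLocalization.lift_mk'_spec]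
    exact he)
  exact ⟨χ'.comp ((AlgEquiv.ofInjective ι hι).symm.toAlgHom.comp (Subalgebra.inclusion hT'))⟩

/-- Homomorphisms to algebraically closed fields extend to finitely generated subalgebras of an
algebraic extension, away from a nonzero element. -/
theorem exists_algHom_adjoin [FaithfulSMul R L₀] [Algebra.IsAlgebraic R L₀] (T : Finset L₀) :
    Near R (fun L => Nonempty (Algebra.adjoin R (T : Set L₀) →ₐ[R] L)) := by
  classical
  obtain ⟨a, ha, hint⟩ := Algebra.IsAlgebraic.exists_integral_multiples (R := R) T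
  refine ⟨a, ha, fun L _ _ _ hL => ?_⟩
  haveI : Algebra.IsIntegral R (Algebra.adjoin R ((T.image fun t => a • t : Finset L₀) : Set L₀)) := by
    refine Algebra.IsIntegral.adjoin fun x hx => ?_
    obtain ⟨t, ht, rfl⟩ := Finset.mem_image.1 hx
    exact hint t ht
  have hinj := FaithfulSMul.algebraMap_injective R L₀
  obtain ⟨χ⟩ := exists_algHom_integral (Algebra.adjoin R ((T.image fun t => a • t : Finset L₀) : Set L₀))
    (fun x y h => hinj (congrArg Subtype.val h)) L
  refine exists_algHom_of_fractions (Subalgebra.val _) Subtype.val_injective χ (algebraMap R _ a)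
    (isUnit_iff_ne_zero.2 (by rw [AlgHom.commutes]; exact hL))
    (isUnit_iff_ne_zero.2 (by rw [AlgHom.commutes]; exact fun h => ha (hinj (h.trans (map_zero _).symm))))
    _ T le_rfl fun t ht => ?_
  refine ⟨⟨a • t, Algebra.subset_adjoin (Finset.mem_image_of_mem _ ht)⟩, ?_⟩
  exact Algebra.smul_def a t

theorem comp_inclusion_ne_zero {R : Type u} [CommRing R] {L₀ L : Type u} [Field L₀] [Field L] [Algebra R L₀]
    [Algebra R L] {S S' : Subalgebra R L₀} (h : S ≤ S') (ψ : S' →ₐ[R] L) (c : S) (hc : (c : L₀) ≠ 0)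
    (hi : (c : L₀)⁻¹ ∈ S') : (ψ.comp (Subalgebra.inclusion h)) c ≠ 0 := by
  intro h0
  have h1 : Subalgebra.inclusion h c * (⟨(c : L₀)⁻¹, hi⟩ : S') = 1 := by
    apply Subtype.ext
    push_cast
    exact mul_inv_cancel₀ hc
  have h2 := congrArg ψ h1
  rw [map_mul, map_one] at h2
  rw [AlgHom.comp_apply] at h0
  rw [h0, zero_mul] at h2
  exact zero_ne_one h2

/-- Transfer from a finitely generated subalgebra of the algebraic extension. -/
theorem near_of_adjoin [FaithfulSMul R L₀] [Algebra.IsAlgebraic R L₀] (T : Finset L₀)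
    {P : ∀ (L : Type u) [Field L] [IsAlgClosed L] [Algebra R L], Prop}
    (h : Near (Algebra.adjoin R (T : Set L₀)) (fun L => ∀ [Algebra R L]
      [IsScalarTower R (Algebra.adjoin R (T : Set L₀)) L], P L)) : Near R P := by
  classical
  obtain ⟨c', hc', hP⟩ := h
  have hc0 : (c' : L₀) ≠ 0 := fun e => hc' (Subtype.ext e)
  obtain ⟨c, hc, hext⟩ := exists_algHom_adjoin (R := R) (insert (c' : L₀)⁻¹ T)
  refine ⟨c, hc, fun L _ _ _ hL => ?_⟩
  obtain ⟨ψ⟩ := hext L hL
  have hle : Algebra.adjoin R (T : Set L₀) ≤ Algebra.adjoin R ((insert (c' : L₀)⁻¹ T : Finset L₀) : Set L₀) :=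
    Algebra.adjoin_mono (Finset.coe_subset.2 (Finset.subset_insert _ _))
  let φ := ψ.comp (Subalgebra.inclusion hle)
  letI := φ.toRingHom.toAlgebra
  haveI : IsScalarTower R (Algebra.adjoin R (T : Set L₀)) L :=
    IsScalarTower.of_algebraMap_eq fun r => (φ.commutes r).symm
  refine hP L ?_
  exact comp_inclusion_ne_zero hle ψ c' hc0 (Algebra.subset_adjoin (Finset.mem_insert_self _ _))

/-- A module becomes free after inverting a nonzero element; as fields see it. -/
theorem exists_free_near (S : Type u) [CommRing S] [Algebra R S] [Algebra.FiniteType R S] :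
    ∃ c : R, c ≠ 0 ∧ Module.Free (Localization.Away c) (Localization.Away c ⊗[R] S) := by
  obtain ⟨c, hc, hS, -, -, -⟩ := Groth.Agent.GenFreeRed.exists_isGood R S S 1 one_ne_zero
  rw [one_mul] at hc hS
  haveI := hS
  exact ⟨c, hc, Groth.Agent.FlatMisc.SpreadRed.free_baseChange c S⟩

end Groth.Agent.H1Spread
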