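import Groth.Agent.FlatMisc.GenericReduction
import Mathlib

/-!
# Finite affine atlases over an affine base and their base changes
-/

universe u

open AlgebraicGeometry CategoryTheory CategoryTheory.Limits TopologicalSpace TensorProduct

noncomputable section

namespace Groth.Agent.H1Spread

/-- The morphism of spectra of an algebra. -/
abbrev sp (R A : Type u) [CommRing R] [CommRing A] [Algebra R A] :
    Spec (CommRingCat.of A) ⟶ Spec (CommRingCat.of R) :=
  Spec.map (CommRingCat.ofHom (algebraMap R A))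

/-- Finitely many affine opens of finite type covering a scheme over an affine base. -/
structure Atlas {R : Type u} [CommRing R] {X : Scheme.{u}} (g : X ⟶ Spec (CommRingCat.of R)) where
  κ : Type u
  [fin : Finite κ]
  B : κ → Type u
  [ring : ∀ k, CommRing (B k)]
  [alg : ∀ k, Algebra R (B k)]
  [ft : ∀ k, Algebra.FiniteType R (B k)]
  u : ∀ k, Spec (CommRingCat.of (B k)) ⟶ X
  [imm : ∀ k, IsOpenImmersion (u k)]
  hu : ∀ k, u k ≫ g = sp R (B k)
  cov : ∀ x, ∃ k, x ∈ Set.range (u k)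

attribute [instance] Atlas.fin Atlas.ring Atlas.alg Atlas.ft Atlas.imm

variable {R : Type u} [CommRing R] {X : Scheme.{u}} {g : X ⟶ Spec (CommRingCat.of R)}

theorem exists_atlas (g : X ⟶ Spec (CommRingCat.of R)) [LocallyOfFiniteType g] [QuasiCompact g] :
    Nonempty (Atlas g) := by
  haveI : CompactSpace X := QuasiCompact.compactSpace_of_compactSpace g
  obtain ⟨t, ht, htf, htc⟩ := X.isBasis_affineOpens.exists_finite_of_isCompact (U := (⊤ : X.Opens)) isCompact_univ
  haveI := htf.to_subtype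
  let φ : ∀ V : t, CommRingCat.of R ⟶ Γ(X, V.1) := fun V =>
    (Scheme.ΓSpecIso (CommRingCat.of R)).inv ≫ g.appLE ⊤ V.1 (by rw [Scheme.Hom.preimage_top]; exact le_top)
  letI : ∀ V : t, Algebra R Γ(X, V.1) := fun V => (φ V).hom.toAlgebra
  have hu : ∀ V : t, (ht V.2 : IsAffineOpen V.1).fromSpec ≫ g = sp R Γ(X, V.1) := by
    intro V
    rw [← IsAffineOpen.SpecMap_appLE_fromSpec g (isAffineOpen_top _) (ht V.2 : IsAffineOpen V.1)
      (by rw [Scheme.Hom.preimage_top]; exact le_top), IsAffineOpen.fromSpec_top, Scheme.isoSpec_Spec_inv,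
      ← Spec.map_comp]
    rfl
  haveI : ∀ V : t, Algebra.FiniteType R Γ(X, V.1) := fun V => by
    haveI : LocallyOfFiniteType (Spec.map (φ V)) := by
      haveI := (ht V.2 : IsAffineOpen V.1).isOpenImmersion_fromSpec
      have h : Spec.map (φ V) = (ht V.2 : IsAffineOpen V.1).fromSpec ≫ g := (hu V).symm
      rw [h]; infer_instance
    exact (HasRingHomProperty.Spec_iff (P := @LocallyOfFiniteType) (φ := φ V)).1 inferInstance
  exact ⟨{ κ := t
           B := fun V => Γ(X, V.1)
           u := fun V => (ht V.2 : IsAffineOpen V.1).fromSpec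
           imm := fun V => (ht V.2 : IsAffineOpen V.1).isOpenImmersion_fromSpec
           hu := hu
           cov := fun x => by
             have hx : x ∈ (⊤ : X.Opens) := trivial
             rw [htc] at hx
             obtain ⟨V, hV, hxV⟩ := Opens.mem_sSup.1 hx
             exact ⟨⟨V, hV⟩, by rw [(ht hV : IsAffineOpen V).range_fromSpec]; exact hxV⟩ }⟩

namespace Atlas

variable (𝔄 : Atlas g) (A : Type u) [CommRing A] [Algebra R A]

/-- A piece of the base change. -/
def piece (k : 𝔄.κ) : Spec (CommRingCat.of (A ⊗[R] 𝔄.B k)) ⟶ pullback g (sp R A) :=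
  pullback.lift
    (Spec.map (CommRingCat.ofHom (Algebra.TensorProduct.includeRight : 𝔄.B k →ₐ[R] A ⊗[R] 𝔄.B k).toRingHom) ≫ 𝔄.u k)
    (Spec.map (CommRingCat.ofHom (Algebra.TensorProduct.includeLeftRingHom : A →+* A ⊗[R] 𝔄.B k)))
    (by rw [Category.assoc, 𝔄.hu]; exact FlatMisc.GenericReduction.isPullback_spec_tensor.w.symm)

@[reassoc (attr := simp)]
theorem piece_fst (k : 𝔄.κ) : 𝔄.piece A k ≫ pullback.fst _ _ =
    Spec.map (CommRingCat.ofHom (Algebra.TensorProduct.includeRight : 𝔄.B k →ₐ[R] A ⊗[R] 𝔄.B k).toRingHom) ≫ 𝔄.u k :=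
  pullback.lift_fst _ _ _

@[reassoc (attr := simp)]
theorem piece_snd (k : 𝔄.κ) : 𝔄.piece A k ≫ pullback.snd _ _ =
    Spec.map (CommRingCat.ofHom (Algebra.TensorProduct.includeLeftRingHom : A →+* A ⊗[R] 𝔄.B k)) :=
  pullback.lift_snd _ _ _

theorem piece_eq (k : 𝔄.κ) : 𝔄.piece A k =
    (FlatMisc.GenericReduction.isPullback_spec_tensor (A := R) (B := A) (C := 𝔄.B k)).flip.isoPullback.hom ≫
      pullback.map (sp R (𝔄.B k)) (sp R A) g (sp R A) (𝔄.u k) (𝟙 _) (𝟙 _) (by simp [𝔄.hu]) (by simp) := by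
  refine pullback.hom_ext ?_ ?_
  · rw [piece_fst, Category.assoc, pullback.lift_fst, IsPullback.isoPullback_hom_fst_assoc]
  · rw [piece_snd, Category.assoc, pullback.lift_snd, Category.comp_id, IsPullback.isoPullback_hom_snd]

instance isOpenImmersion_piece (k : 𝔄.κ) : IsOpenImmersion (𝔄.piece A k) := by
  rw [piece_eq]; infer_instance

theorem fst_piece_apply (k : 𝔄.κ) (p : PrimeSpectrum (A ⊗[R] 𝔄.B k)) :
    pullback.fst g (sp R A) (𝔄.piece A k p) =
      𝔄.u k (PrimeSpectrum.comap (Algebra.TensorProduct.includeRight : 𝔄.B k →ₐ[R] A ⊗[R] 𝔄.B k).toRingHom p) :=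
  (Scheme.Hom.comp_apply _ _ _).symm.trans
    ((congrArg (fun m : Spec (CommRingCat.of (A ⊗[R] 𝔄.B k)) ⟶ X => m p) (𝔄.piece_fst A k)).trans
      (Scheme.Hom.comp_apply _ _ _))

theorem range_piece (k : 𝔄.κ) :
    Set.range (𝔄.piece A k) = pullback.fst g (sp R A) ⁻¹' Set.range (𝔄.u k) := by
  rw [piece_eq, Scheme.Hom.comp_base, TopCat.coe_comp,
    Function.Surjective.range_comp ((FlatMisc.GenericReduction.isPullback_spec_tensor (A := R) (B := A) (C := 𝔄.B k)).flip.isoPullback.hom.surjective), Scheme.Pullback.range_map]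
  simp

theorem exists_mem_range_piece (x : ↥(pullback g (sp R A))) : ∃ k, x ∈ Set.range (𝔄.piece A k) := by
  obtain ⟨k, hk⟩ := 𝔄.cov (pullback.fst g (sp R A) x)
  exact ⟨k, by rw [range_piece]; exact hk⟩

/-- The atlas of a base change. -/
def baseChange : Atlas (pullback.snd g (sp R A)) where
  κ := 𝔄.κ
  B k := A ⊗[R] 𝔄.B k
  u := 𝔄.piece A
  hu := 𝔄.piece_snd A
  cov := 𝔄.exists_mem_range_piece A

end Atlas

end Groth.Agent.H1Spread
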