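import Mathlib

/-!
# Connected components of a space from finitely many connected pieces
-/

open Set

namespace Groth.Agent.H1Spread

/-- Components counted by the meeting relation of finitely many connected pieces, each closed in a
member of an open cover. -/
theorem card_connectedComponents_eq_quot {X : Type*} [TopologicalSpace X] {ι κ : Type*} [Finite ι]
    (U : κ → Set X) (hU : ∀ k, IsOpen (U k)) (hcovU : ∀ x, ∃ k, x ∈ U k) (v : ι → κ) (Z : ι → Set X)
    (hpc : ∀ i, IsPreconnected (Z i)) (hne : ∀ i, (Z i).Nonempty) (hcl : ∀ i, closure (Z i) ∩ U (v i) ⊆ Z i)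
    (hcov : ∀ k, ∀ x ∈ U k, ∃ i, v i = k ∧ x ∈ Z i) (r : ι → ι → Prop)
    (h₁ : ∀ i k, r i k → (Z i ∩ Z k).Nonempty) (h₂ : ∀ i k, (Z i ∩ Z k).Nonempty → Relation.EqvGen r i k) :
    ENat.card (ConnectedComponents X) = ENat.card (Quot r) := by
  let S : ι → Set X := fun i => ⋃ k ∈ {k | Relation.EqvGen r i k}, Z k
  have hclosed : ∀ i, IsClosed (S i) := by
    intro i
    refine closure_subset_iff_isClosed.1 ?_
    intro w hw
    rw [Set.Finite.closure_biUnion (Set.toFinite _)] at hw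
    obtain ⟨k, hk, hw⟩ := mem_iUnion₂.1 hw
    obtain ⟨m, hm⟩ := hcovU w
    have h : U m ∩ Z k ⊆ ⋃ l ∈ {l | v l = m ∧ (Z k ∩ Z l).Nonempty}, Z l := by
      rintro y ⟨hy, hyk⟩
      obtain ⟨l, hl, hyl⟩ := hcov m y hy
      exact mem_iUnion₂.2 ⟨l, ⟨hl, y, hyk, hyl⟩, hyl⟩
    have h' := closure_mono h ((hU m).inter_closure ⟨hm, hw⟩)
    rw [Set.Finite.closure_biUnion (Set.toFinite _)] at h'
    obtain ⟨l, ⟨rfl, hl⟩, hwl⟩ := mem_iUnion₂.1 h'
    exact mem_iUnion₂.2 ⟨l, Relation.EqvGen.trans _ _ _ hk (h₂ k l hl), hcl l ⟨hwl, hm⟩⟩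
  have hclopen : ∀ i, IsClopen (S i) := by
    intro i
    refine ⟨hclosed i, ?_⟩
    have : (S i)ᶜ = ⋃ k ∈ {k | ¬ Relation.EqvGen r i k}, S k := by
      ext x
      simp only [S, mem_compl_iff, mem_iUnion₂, mem_setOf_eq, exists_prop, not_exists, not_and]
      constructor
      · intro hx
        obtain ⟨m, hm⟩ := hcovU x
        obtain ⟨k, -, hk⟩ := hcov m x hm
        exact ⟨k, fun h => hx k h hk, k, Relation.EqvGen.refl _, hk⟩
      · rintro ⟨k, hk, l, hkl, hxl⟩ l' hl' hxl'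
        exact hk (Relation.EqvGen.trans _ _ _ hl'
          (Relation.EqvGen.trans _ _ _ (h₂ l' l ⟨x, hxl', hxl⟩) (Relation.EqvGen.symm _ _ hkl)))
    rw [← isClosed_compl_iff, this]
    exact Set.Finite.isClosed_biUnion (Set.toFinite _) fun k _ => hclosed k
  choose pt hpt using hne
  let F : Quot r → ConnectedComponents X := Quot.lift (fun i => ConnectedComponents.mk (pt i)) fun i k h => by
    obtain ⟨y, hyi, hyk⟩ := h₁ i k h
    have e1 : ConnectedComponents.mk y = ConnectedComponents.mk (pt i) :=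
      ConnectedComponents.coe_eq_coe'.2 ((hpc i).subset_connectedComponent (hpt i) hyi)
    have e2 : ConnectedComponents.mk y = ConnectedComponents.mk (pt k) :=
      ConnectedComponents.coe_eq_coe'.2 ((hpc k).subset_connectedComponent (hpt k) hyk)
    exact e1.symm.trans e2
  refine (ENat.card_congr (Equiv.ofBijective F ⟨?_, ?_⟩)).symm
  · rintro ⟨i⟩ ⟨k⟩ hik
    have hk : pt k ∈ connectedComponent (pt i) := ConnectedComponents.coe_eq_coe'.1 hik.symm
    have hi : pt i ∈ S i := mem_iUnion₂.2 ⟨i, Relation.EqvGen.refl _, hpt i⟩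
    obtain ⟨l, hl, hkl⟩ := mem_iUnion₂.1 ((hclopen i).connectedComponent_subset hi hk)
    exact Quot.eqvGen_sound (Relation.EqvGen.trans _ _ _ hl (h₂ l k ⟨pt k, hkl, hpt k⟩))
  · rintro ⟨x⟩
    obtain ⟨m, hm⟩ := hcovU x
    obtain ⟨k, -, hk⟩ := hcov m x hm
    exact ⟨Quot.mk r k, ConnectedComponents.coe_eq_coe'.2 ((hpc k).subset_connectedComponent hk (hpt k))⟩

end Groth.Agent.H1Spread
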