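import Mathlib

/-!
# An integral algebra over a perfect field is birational to a hypersurface
-/

universe u

open MvPolynomial

noncomputable section

namespace Groth.Agent.H1Spread

theorem exists_span_singleton_eq_of_comap_bot {R₀ : Type u} [CommRing R₀] [IsDomain R₀]
    [UniqueFactorizationMonoid R₀] (P : Ideal (Polynomial R₀)) [hP : P.IsPrime] (hP0 : P ≠ ⊥)
    (hc : ∀ r : R₀, Polynomial.C r ∈ P → r = 0) : ∃ F, Prime F ∧ P = Ideal.span {F} := by
  obtain ⟨F, hFP, hF⟩ := hP.exists_mem_prime_of_ne_bot hP0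
  refine ⟨F, hF, le_antisymm ?_ (Ideal.span_le.2 (Set.singleton_subset_iff.2 hFP))⟩
  let K := FractionRing R₀
  letI : Algebra (Polynomial R₀) (Polynomial K) := (Polynomial.mapRingHom (algebraMap R₀ K)).toAlgebra
  let M := (nonZeroDivisors R₀).map (Polynomial.C : R₀ →+* Polynomial R₀)
  haveI : IsLocalization M (Polynomial K) := Polynomial.isLocalization (nonZeroDivisors R₀) K
  have hd : Disjoint (M : Set (Polynomial R₀)) (P : Set (Polynomial R₀)) := by
    rw [Set.disjoint_left]
    rintro _ ⟨r, hr, rfl⟩ h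
    exact nonZeroDivisors.ne_zero hr (hc r h)
  have hFs : Ideal.span {F} ≤ P := Ideal.span_le.2 (Set.singleton_subset_iff.2 hFP)
  haveI hFp : (Ideal.span {F}).IsPrime := Ideal.isPrime_span_singleton_of_prime hF
  have hd' : Disjoint (M : Set (Polynomial R₀)) (Ideal.span {F} : Set (Polynomial R₀)) :=
    hd.mono_right hFs
  have h1 := IsLocalization.isPrime_of_isPrime_disjoint M (Polynomial K) _ hP hd
  have h2 := IsLocalization.isPrime_of_isPrime_disjoint M (Polynomial K) _ hFp hd'
  have h3 : (Ideal.span {F}).map (algebraMap (Polynomial R₀) (Polynomial K)) ≠ ⊥ := by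
    rw [Ideal.map_span, Set.image_singleton, Ne, Ideal.span_singleton_eq_bot]
    show Polynomial.map (algebraMap R₀ K) F ≠ 0
    exact fun e => hF.ne_zero ((Polynomial.map_eq_zero_iff (IsFractionRing.injective R₀ K)).1 e)
  have h4 := (IsPrime.to_maximal_ideal (hpi := h2) h3).eq_of_le h1.ne_top (Ideal.map_mono hFs)
  rw [← IsLocalization.under_map_of_isPrime_disjoint M (Polynomial K) hP hd,
    ← IsLocalization.under_map_of_isPrime_disjoint M (Polynomial K) hFp hd', h4]

theorem exists_birational_hypersurface (k : Type u) [Field k] [PerfectField k] (A : Type u) [CommRing A]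
    [IsDomain A] [Algebra k A] [Algebra.FiniteType k A] :
    ∃ (σ : Type u) (_ : Finite σ) (F q : MvPolynomial σ k) (g : A)
      (φ : MvPolynomial σ k →ₐ[k] Localization.Away g), g ≠ 0 ∧ F ≠ 0 ∧ (Ideal.span {F}).IsPrime ∧
        IsUnit (φ q) ∧ φ F = 0 ∧ (∀ z, ∃ p n, z * φ q ^ n = φ p) ∧ ∀ p, φ p = 0 → F ∣ p := by
  classical
  let Ω := FractionRing A
  haveI : Algebra.EssFiniteType k Ω := Algebra.EssFiniteType.comp k A Ω
  obtain ⟨s, hs, hsep⟩ := exists_isTranscendenceBasis_and_isSeparable_of_perfectField k Ω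
  let K1 := IntermediateField.adjoin k (s : Set Ω)
  haveI : Algebra.IsSeparable K1 Ω := hsep
  haveI : Algebra.EssFiniteType K1 Ω := Algebra.EssFiniteType.of_comp k K1 Ω
  haveI : FiniteDimensional K1 Ω := Algebra.finite_of_essFiniteType_of_isAlgebraic (F := K1) (E := Ω)
  obtain ⟨θ, hθ⟩ := Field.exists_primitive_element K1 Ω
  let x : Option s → Ω := fun o => o.elim θ Subtype.val
  let ψ := aeval (R := k) x
  let e := optionEquivLeft k s
  let P : Ideal (Polynomial (MvPolynomial s k)) := RingHom.ker (ψ.comp e.symm.toAlgHom).toRingHom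
  haveI : P.IsPrime := RingHom.ker_isPrime _
  have hrange : Set.range x = insert θ (s : Set Ω) := by
    ext y
    constructor
    · rintro ⟨_ | i, rfl⟩
      exacts [Set.mem_insert _ _, Set.mem_insert_of_mem _ i.2]
    · rintro (rfl | hy)
      exacts [⟨none, rfl⟩, ⟨some ⟨y, hy⟩, rfl⟩]
  have halg : AlgebraicIndependent k ((↑) : s → Ω) := hs.1
  have hP0 : P ≠ ⊥ := by
    intro h0
    have hx : AlgebraicIndependent k x := by
      rw [AlgebraicIndependent, injective_iff_map_eq_zero]
      intro z hz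
      have : e z ∈ P := by
        show ψ (e.symm (e z)) = 0
        rw [e.symm_apply_apply]; exact hz
      rw [h0, Submodule.mem_bot] at this
      exact e.injective (this.trans (map_zero e).symm)
    refine ((halg.option_iff_transcendental θ).1 hx) ?_
    exact (hs.isAlgebraic.isAlgebraic θ)
  have hc : ∀ r : MvPolynomial s k, Polynomial.C r ∈ P → r = 0 := by
    intro r hr
    refine halg.eq_zero_of_aeval_eq_zero _ ?_
    rw [← show ψ (e.symm (Polynomial.C r)) = aeval ((↑) : s → Ω) r from ?_]
    · exact hr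
    · rw [optionEquivLeft_symm_apply, Polynomial.aevalTower_C, ← AlgHom.comp_apply]
      show aeval x (rename some r) = _
      rw [aeval_rename]
      rfl
  obtain ⟨F₁, hF₁, hPF⟩ := exists_span_singleton_eq_of_comap_bot P hP0 hc
  let F := e.symm F₁
  have hker : ∀ p, ψ p = 0 → F ∣ p := by
    intro p hp
    have h : e p ∈ P := by
      show ψ (e.symm (e p)) = 0
      rw [e.symm_apply_apply]; exact hp
    rw [hPF, Ideal.mem_span_singleton] at h
    have := map_dvd e.symm h
    rwa [e.symm_apply_apply] at this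
  have hFψ : ψ F = 0 := by
    have h : F₁ ∈ P := hPF ▸ Ideal.mem_span_singleton_self F₁
    exact h
  have hFp : Prime F := (MulEquiv.prime_iff e.symm.toRingEquiv.toMulEquiv).2 hF₁
  -- everything is a fraction in `x`
  have hgen : ∀ y : Ω, ∃ r d : MvPolynomial (Option s) k, ψ d ≠ 0 ∧ y * ψ d = ψ r := by
    intro y
    have hy : y ∈ IntermediateField.adjoin k (Set.range x) := by
      have h : (IntermediateField.adjoin K1 {θ}).restrictScalars k = ⊤ := by
        rw [hθ, IntermediateField.restrictScalars_top]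
      rw [IntermediateField.adjoin_adjoin_left] at h
      rw [hrange, Set.insert_eq, Set.union_comm, h]
      trivial
    obtain ⟨r, d, rfl⟩ := (IntermediateField.mem_adjoin_range_iff (F := k) x y).1 hy
    by_cases hd : ψ d = 0
    · exact ⟨0, 1, by simp, by simp [show aeval x d = 0 from hd]⟩
    · exact ⟨r, d, hd, div_mul_cancel₀ _ hd⟩
  obtain ⟨t, ht⟩ := ‹Algebra.FiniteType k A›.out
  choose rb db hdb hrb using fun a : A => hgen (algebraMap A Ω a)
  let q₀ := ∏ a ∈ t, db a
  have hq₀ : ψ q₀ ≠ 0 := by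
    rw [map_prod]; exact Finset.prod_ne_zero_iff.2 fun a _ => hdb a
  have hpoly : ∀ a : A, ∃ p n, algebraMap A Ω a * ψ q₀ ^ n = ψ p := by
    intro a
    have hmem : a ∈ Algebra.adjoin k (t : Set A) := by rw [ht]; trivial
    induction hmem using Algebra.adjoin_induction with
    | mem a ha =>
      refine ⟨rb a * ∏ b ∈ t.erase a, db b, 1, ?_⟩
      rw [pow_one, map_mul, ← hrb, mul_assoc, ← map_mul, Finset.mul_prod_erase t db ha]
    | algebraMap c => exact ⟨C c, 0, by simp [ψ, ← IsScalarTower.algebraMap_apply]⟩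
    | add a b _ _ ha hb =>
      obtain ⟨p, n, hp⟩ := ha
      obtain ⟨p', n', hp'⟩ := hb
      exact ⟨p * q₀ ^ n' + p' * q₀ ^ n, n + n', by rw [map_add, map_add, map_mul, map_mul, map_pow, map_pow, ← hp, ← hp']; ring⟩
    | mul a b _ _ ha hb =>
      obtain ⟨p, n, hp⟩ := ha
      obtain ⟨p', n', hp'⟩ := hb
      exact ⟨p * p', n + n', by rw [map_mul, map_mul, ← hp, ← hp']; ring⟩
  choose a v hv hav using fun i => IsFractionRing.div_surjective (A := A) (x i)
  obtain ⟨aq, vq, hvq, havq⟩ := IsFractionRing.div_surjective (A := A) (ψ q₀)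
  have hinj : Function.Injective (algebraMap A Ω) := IsFractionRing.injective A Ω
  have haq : aq ≠ 0 := fun h => hq₀ (by rw [← havq, h, map_zero, zero_div])
  let g := (∏ i, v i) * (vq * aq)
  have hg : g ≠ 0 := mul_ne_zero (Finset.prod_ne_zero_iff.2 fun i _ => nonZeroDivisors.ne_zero (hv i))
    (mul_ne_zero (nonZeroDivisors.ne_zero hvq) haq)
  let j : Localization.Away g →ₐ[A] Ω := IsLocalization.liftAlgHom (M := Submonoid.powers g)
    (f := Algebra.ofId A Ω) (fun y => by
      obtain ⟨n, hn⟩ := y.2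
      refine isUnit_iff_ne_zero.2 fun h => pow_ne_zero n hg ?_
      exact hinj ((congrArg (algebraMap A Ω) hn).trans (h.trans (map_zero _).symm)))
  have hj : Function.Injective j := by
    refine (injective_iff_map_eq_zero _).2 fun z hz => ?_
    obtain ⟨b, y, rfl⟩ := IsLocalization.exists_mk'_eq (Submonoid.powers g) z
    rw [IsLocalization.coe_liftAlgHom, IsLocalization.lift_mk'_spec, mul_zero] at hz
    exact (IsLocalization.mk'_eq_zero_iff _ _).2 ⟨1, by rw [hinj (hz.trans (map_zero _).symm), mul_zero]⟩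
  have hjA : ∀ b, j (algebraMap A _ b) = algebraMap A Ω b := fun b => j.commutes b
  have hunit : ∀ b, b ∣ g → IsUnit (algebraMap A (Localization.Away g) b) := fun b hb =>
    isUnit_of_dvd_unit (map_dvd _ hb) (IsLocalization.Away.algebraMap_isUnit g)
  have hvu : ∀ i, IsUnit (algebraMap A (Localization.Away g) (v i)) := fun i =>
    hunit _ ((Finset.dvd_prod_of_mem v (Finset.mem_univ i)).trans (dvd_mul_right _ _))
  let y : Option s → Localization.Away g := fun i => algebraMap A _ (a i) * ↑(hvu i).unit⁻¹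
  have hjy : ∀ i, j (y i) = x i := fun i => by
    rw [← hav i, map_mul, hjA, div_eq_mul_inv]
    refine congrArg (_ * ·) (eq_inv_of_mul_eq_one_left ?_)
    rw [← hjA (v i), ← map_mul, IsUnit.val_inv_mul, map_one]
  let φ := aeval (R := k) y
  have hjφ : ∀ p, j (φ p) = ψ p := fun p => by
    show ((j.restrictScalars k).comp (aeval y)) p = ψ p
    rw [comp_aeval]
    simp only [AlgHom.restrictScalars_apply, hjy]
    rfl
  obtain ⟨pg, ng, hpg⟩ := hpoly g
  have hu₀ : IsUnit (φ q₀) := by
    have h1 := hunit vq ((dvd_mul_right vq aq).trans (dvd_mul_left _ _))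
    have h2 := hunit aq ((dvd_mul_left aq vq).trans (dvd_mul_left _ _))
    have h3 : φ q₀ * algebraMap A _ vq = algebraMap A _ aq := hj (by
      rw [map_mul, hjφ, hjA, hjA, ← havq, div_mul_cancel₀]
      exact fun h => nonZeroDivisors.ne_zero hvq (hinj (h.trans (map_zero _).symm)))
    exact isUnit_of_mul_isUnit_left (h3.symm ▸ h2)
  have hgφ : algebraMap A (Localization.Away g) g * φ q₀ ^ ng = φ pg := hj (by
    rw [map_mul, map_pow, hjA, hjφ, hjφ, hpg])
  refine ⟨Option s, inferInstance, F, q₀ * pg, g, φ, hg, hFp.ne_zero, Ideal.isPrime_span_singleton_of_prime hFp,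
    ?_, hj (by rw [hjφ, map_zero, hFψ]), fun z => ?_, fun p hp => hker p (by rw [← hjφ, hp, map_zero])⟩
  · rw [map_mul, ← hgφ]
    exact hu₀.mul ((IsLocalization.Away.algebraMap_isUnit g).mul (hu₀.pow ng))
  · obtain ⟨m, b, hz⟩ := IsLocalization.Away.surj g z
    obtain ⟨p, n, hp⟩ := hpoly b
    have hb : algebraMap A (Localization.Away g) b * φ q₀ ^ n = φ p := hj (by
      rw [map_mul, map_pow, hjA, hjφ, hjφ, hp])
    refine ⟨p * q₀ ^ (ng * m + m) * pg ^ n, m + n, ?_⟩
    simp only [map_mul, map_pow, ← hgφ, ← hb, ← hz]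
    ring

end Groth.Agent.H1Spread
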