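import Groth.Agent.H1Spread.Prime
import Groth.Agent.H1Spread.NormalForm

/-!
# Geometric integrality spreads out
-/

universe u

open TensorProduct

noncomputable section

namespace Groth.Agent.H1Spread

/-- An element of a free module killed in a larger field is zero. -/
theorem one_tmul_injective {A : Type u} [CommRing A] {L : Type u} [Field L] [Algebra A L]
    (hA : Function.Injective (algebraMap A L)) {M : Type u} [AddCommGroup M] [Module A M] [Module.Free A M] :
    Function.Injective fun m : M => (1 : L) ⊗ₜ[A] m := by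
  have he : (fun m : M => (1 : L) ⊗ₜ[A] m) =
      ((Algebra.linearMap A L).rTensor M) ∘ (TensorProduct.lid A M).symm := by
    funext x
    simp
  rw [he]
  exact (Module.Flat.rTensor_preserves_injective_linearMap _ hA).comp (LinearEquiv.injective _)

/-- A torsion element dies in every field over a good open. -/
theorem exists_tmul_eq_zero_near {R : Type u} [CommRing R] [IsDomain R] {L₀ : Type u} [Field L₀] [Algebra R L₀]
    [FaithfulSMul R L₀] (C : Type u) [CommRing C] [Algebra R C] [Algebra.FiniteType R C] :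
    ∃ c : R, c ≠ 0 ∧ ∀ (L : Type u) [Field L] [Algebra R L], algebraMap R L c ≠ 0 →
      ∀ a : C, (1 : L₀) ⊗ₜ[R] a = 0 → (1 : L) ⊗ₜ[R] a = 0 := by
  obtain ⟨c, hc, hfree⟩ := exists_free_near (R := R) C
  refine ⟨c, hc, fun L _ _ hL a ha => ?_⟩
  haveI := hfree
  obtain ⟨_, _⟩ := Groth.Agent.FlatMisc.SpreadRed.exists_algebra_away L c hL
  have hL₀ := FaithfulSMul.algebraMap_injective R L₀
  obtain ⟨_, _⟩ := Groth.Agent.FlatMisc.SpreadRed.exists_algebra_away L₀ c fun h =>
    hc (hL₀ (h.trans (map_zero _).symm))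
  have hinj : Function.Injective (algebraMap (Localization.Away c) L₀) := by
    refine (injective_iff_map_eq_zero _).2 fun z hz => ?_
    obtain ⟨r, y, rfl⟩ := IsLocalization.exists_mk'_eq (Submonoid.powers c) z
    have h := IsLocalization.mk'_spec (Localization.Away c) r y
    have h' := congrArg (algebraMap (Localization.Away c) L₀) h
    rw [map_mul, hz, zero_mul, ← IsScalarTower.algebraMap_apply] at h'
    rw [hL₀ (h'.symm.trans (map_zero _).symm), IsLocalization.mk'_zero]
  have h1 : (1 : Localization.Away c) ⊗ₜ[R] a = 0 := one_tmul_injective hinj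
    ((AlgebraTensorModule.cancelBaseChange R (Localization.Away c) L₀ L₀ C).injective
      (by simp [ha]))
  have := congrArg (Algebra.TensorProduct.map (IsScalarTower.toAlgHom R (Localization.Away c) L) (AlgHom.id R C)) h1
  simpa using this

theorem map_mk_eq {R : Type u} [CommRing R] {L : Type u} [Field L] [Algebra R L] {σ : Type u}
    (I : Ideal (MvPolynomial σ R)) (p : MvPolynomial σ R) :
    (MvPolynomial.aeval fun i : σ => (1 : L) ⊗ₜ[R] (Ideal.Quotient.mk I (MvPolynomial.X i)))
      (MvPolynomial.map (algebraMap R L) p) = (1 : L) ⊗ₜ[R] Ideal.Quotient.mk I p := by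
  induction p using MvPolynomial.induction_on with
  | C r =>
    rw [MvPolynomial.map_C, MvPolynomial.aeval_C, Algebra.TensorProduct.algebraMap_apply, Algebra.algebraMap_self,
      RingHom.id_apply, Algebra.algebraMap_eq_smul_one, smul_tmul, ← Algebra.algebraMap_eq_smul_one]
    rfl
  | add p q hp hq => rw [map_add, map_add, map_add, hp, hq, tmul_add]
  | mul_X p i hp =>
    rw [map_mul, map_mul, hp, MvPolynomial.map_X, MvPolynomial.aeval_X, Algebra.TensorProduct.tmul_mul_tmul,
      one_mul, ← map_mul]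

theorem tmul_eq_zero_of_dvd {R : Type u} [CommRing R] {L : Type u} [Field L] [Algebra R L] {σ : Type u}
    {F p : MvPolynomial σ R} (h : MvPolynomial.map (algebraMap R L) F ∣ MvPolynomial.map (algebraMap R L) p) :
    (1 : L) ⊗ₜ[R] Ideal.Quotient.mk (Ideal.span {F}) p = 0 := by
  obtain ⟨b, hb⟩ := h
  have h0 : Ideal.Quotient.mk (Ideal.span {F}) F = 0 :=
    Ideal.Quotient.eq_zero_iff_mem.2 (Ideal.mem_span_singleton_self F)
  rw [← map_mk_eq, hb]
  refine (map_mul _ _ b).trans ?_
  rw [map_mk_eq, h0, tmul_zero]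
  exact zero_mul (M₀ := L ⊗[R] (MvPolynomial σ R ⧸ Ideal.span {F})) _

theorem isDomain_tensor_quotient {R : Type u} [CommRing R] {L : Type u} [Field L] [Algebra R L] {σ : Type u}
    (F : MvPolynomial σ R) (h : (Ideal.span {MvPolynomial.map (algebraMap R L) F}).IsPrime) :
    IsDomain (L ⊗[R] (MvPolynomial σ R ⧸ Ideal.span {F})) := by
  haveI := h
  let T : (MvPolynomial σ R ⧸ Ideal.span {F}) →ₐ[R] MvPolynomial σ L ⧸ Ideal.span {MvPolynomial.map (algebraMap R L) F} :=
    Ideal.Quotient.liftₐ (Ideal.span {F})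
      ((Ideal.Quotient.mkₐ R (Ideal.span {MvPolynomial.map (algebraMap R L) F})).comp
        (MvPolynomial.mapAlgHom (Algebra.ofId R L))) (fun a ha => by
      obtain ⟨b, rfl⟩ := Ideal.mem_span_singleton.1 ha
      show Ideal.Quotient.mk _ (MvPolynomial.map (algebraMap R L) (F * b)) = 0
      exact Ideal.Quotient.eq_zero_iff_mem.2 (Ideal.mem_span_singleton.2 (by rw [map_mul]; exact dvd_mul_right _ _)))
  let E₁ := Algebra.TensorProduct.lift (Algebra.ofId L _) T fun _ _ => Commute.all _ _
  let E₂ : MvPolynomial σ L →ₐ[L] L ⊗[R] (MvPolynomial σ R ⧸ Ideal.span {F}) :=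
    MvPolynomial.aeval fun (i : σ) => (1 : L) ⊗ₜ[R] (Ideal.Quotient.mk (Ideal.span {F}) (MvPolynomial.X i))
  let E₂' : (MvPolynomial σ L ⧸ Ideal.span {MvPolynomial.map (algebraMap R L) F}) →ₐ[L]
      L ⊗[R] (MvPolynomial σ R ⧸ Ideal.span {F}) :=
    Ideal.Quotient.liftₐ _ E₂ (fun a ha => by
      obtain ⟨b, rfl⟩ := Ideal.mem_span_singleton.1 ha
      refine (map_mul E₂ _ b).trans ?_
      rw [map_mk_eq, Ideal.Quotient.eq_zero_iff_mem.2 (Ideal.mem_span_singleton_self F), tmul_zero]
      exact zero_mul (M₀ := L ⊗[R] (MvPolynomial σ R ⧸ Ideal.span {F})) _)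
  have h' : E₂'.comp E₁ = AlgHom.id L _ := by
    refine Algebra.TensorProduct.ext (Subsingleton.elim _ _) (AlgHom.ext fun z => ?_)
    obtain ⟨p, rfl⟩ := Ideal.Quotient.mk_surjective z
    simp only [AlgHom.comp_apply, AlgHom.restrictScalars_apply, Algebra.TensorProduct.includeRight_apply,
      E₁, Algebra.TensorProduct.lift_tmul, map_one, one_mul, AlgHom.id_apply]
    exact map_mk_eq _ p
  have hinj : Function.Injective E₁ := Function.LeftInverse.injective (g := E₂') fun z => AlgHom.congr_fun h' z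
  haveI : IsDomain (MvPolynomial σ L ⧸ Ideal.span {MvPolynomial.map (algebraMap R L) F}) := Ideal.Quotient.isDomain _
  exact hinj.isDomain E₁.toRingHom

theorem isDomain_of_away_equiv {R : Type u} [CommRing R] {L : Type u} [Field L] [Algebra R L]
    {C B : Type u} [CommRing C] [Algebra R C] [CommRing B] [Algebra R B] (qb : C) (g : B)
    [IsDomain (L ⊗[R] C)] [Nontrivial (L ⊗[R] B)] (hgL : (1 : L) ⊗ₜ[R] g ∈ nonZeroDivisors (L ⊗[R] B))
    (e₀ : (L ⊗[R] Localization.Away qb) ≃ₐ[L] L ⊗[R] Localization.Away g) : IsDomain (L ⊗[R] B) := by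
  haveI : Nontrivial (Localization.Away ((1 : L) ⊗ₜ[R] g)) :=
    (IsLocalization.injective (Localization.Away ((1 : L) ⊗ₜ[R] g)) (Submonoid.powers_le.2 hgL)).nontrivial
  let e₁ := IsLocalization.Away.tensorProductEquivTMulRight R L g (Localization.Away g)
  let e₂ := IsLocalization.Away.tensorProductEquivTMulRight R L qb (Localization.Away qb)
  let e := (e₂.symm.trans e₀).trans e₁
  have hq0 : (1 : L) ⊗ₜ[R] qb ≠ 0 := by
    intro h
    have hu := IsLocalization.Away.algebraMap_isUnit (S := Localization.Away ((1 : L) ⊗ₜ[R] qb)) ((1 : L) ⊗ₜ[R] qb)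
    have h1 := isUnit_zero_iff.1 (by simpa [h] using hu)
    have := congrArg (fun z => e z) h1
    simp only [map_zero, map_one] at this
    exact zero_ne_one this
  have hnz : (1 : L) ⊗ₜ[R] qb ∈ nonZeroDivisors (L ⊗[R] C) :=
    mem_nonZeroDivisors_iff_right.2 fun x hx => (mul_eq_zero.1 hx).resolve_right hq0
  haveI : IsDomain (Localization.Away ((1 : L) ⊗ₜ[R] qb)) :=
    IsLocalization.isDomain_of_le_nonZeroDivisors _ (Submonoid.powers_le.2 hnz)
  haveI : IsDomain (Localization.Away ((1 : L) ⊗ₜ[R] g)) := MulEquiv.isDomain _ e.symm.toMulEquiv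
  exact (IsLocalization.injective (Localization.Away ((1 : L) ⊗ₜ[R] g)) (Submonoid.powers_le.2 hgL)).isDomain
    (algebraMap _ _)

theorem bijective_tensor_map {R : Type u} [CommRing R] {L : Type u} [Field L] [Algebra R L]
    {A B : Type u} [CommRing A] [Algebra R A] [CommRing B] [Algebra R B] (ψ : A →ₐ[R] B)
    (hψ : Function.Surjective ψ) (hker : ∀ z, ψ z = 0 → (1 : L) ⊗ₜ[R] z = 0) :
    Function.Bijective (Algebra.TensorProduct.map (AlgHom.id L L) ψ) := by
  have hcoe : ∀ z, Algebra.TensorProduct.map (AlgHom.id L L) ψ z = Algebra.TensorProduct.map (AlgHom.id R L) ψ z :=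
    fun z => by
      induction z with
      | zero => simp
      | tmul => simp
      | add a b ha hb => rw [map_add, map_add, ha, hb]
  refine ⟨(injective_iff_map_eq_zero _).2 fun z hz => ?_, LinearMap.lTensor_surjective L (g := ψ.toLinearMap) hψ⟩
  have hz' : z ∈ RingHom.ker (Algebra.TensorProduct.map (AlgHom.id R L) ψ) := by
    rw [RingHom.mem_ker, ← hcoe]; exact hz
  rw [Algebra.TensorProduct.lTensor_ker ψ hψ] at hz'
  have : (RingHom.ker ψ).map (Algebra.TensorProduct.includeRight : A →ₐ[R] L ⊗[R] A) = ⊥ :=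
    le_bot_iff.1 (Ideal.map_le_iff_le_comap.2 fun x hx => hker x hx)
  rw [this] at hz'
  exact hz'

set_option maxHeartbeats 800000 in
/-- The core of the spreading of geometric integrality. -/
theorem isDomain_near_core {R : Type u} [CommRing R] [IsDomain R] {L₀ : Type u} [Field L₀] [IsAlgClosed L₀]
    [Algebra R L₀] [FaithfulSMul R L₀] (B : Type u) [CommRing B] [Algebra R B] [Algebra.FiniteType R B]
    [IsDomain (L₀ ⊗[R] B)] {σ : Type u} [Finite σ] (F q : MvPolynomial σ R) (g : B)
    (φ : MvPolynomial σ R →ₐ[R] Localization.Away g) (hq : IsUnit (φ q)) (hF : φ F = 0)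
    (hsurj : ∀ z, ∃ p n, z * φ q ^ n = φ p)
    (hker : ∀ p, φ p = 0 → MvPolynomial.map (algebraMap R L₀) F ∣ MvPolynomial.map (algebraMap R L₀) p)
    (hF0 : MvPolynomial.map (algebraMap R L₀) F ≠ 0)
    (hFp : (Ideal.span {MvPolynomial.map (algebraMap R L₀) F}).IsPrime) (hg : (1 : L₀) ⊗ₜ[R] g ≠ 0) :
    Near R (fun L => IsDomain (L ⊗[R] B)) := by
  classical
  have hL₀ := FaithfulSMul.algebraMap_injective R L₀
  obtain ⟨c₁, hc₁, hprime⟩ := exists_span_prime_near F hF0 hFp
  obtain ⟨c₂, hc₂, hnzd⟩ := Groth.Agent.FlatMisc.SpreadRed.exists_nzd_near L₀ hL₀ g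
    (mem_nonZeroDivisors_of_ne_zero hg)
  obtain ⟨c₃, hc₃, hnt⟩ := Groth.Agent.FlatMisc.SpreadRed.exists_ne_zero_near L₀ hL₀ (1 : B)
    (by rw [← Algebra.TensorProduct.one_def]; exact one_ne_zero)
  haveI : Algebra.FiniteType R (MvPolynomial σ R ⧸ Ideal.span {F}) :=
    Algebra.FiniteType.of_surjective (Ideal.Quotient.mkₐ R (Ideal.span {F})) Ideal.Quotient.mk_surjective
  obtain ⟨c₄, hc₄, htor⟩ := exists_tmul_eq_zero_near (R := R) (L₀ := L₀) (MvPolynomial σ R ⧸ Ideal.span {F})
  let qb : MvPolynomial σ R ⧸ Ideal.span {F} := Ideal.Quotient.mk _ q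
  let ψ₀ : (MvPolynomial σ R ⧸ Ideal.span {F}) →ₐ[R] Localization.Away g :=
    Ideal.Quotient.liftₐ (Ideal.span {F}) φ (fun a ha => by
      obtain ⟨b, rfl⟩ := Ideal.mem_span_singleton.1 ha
      rw [map_mul, hF, zero_mul])
  let ψ : Localization.Away qb →ₐ[R] Localization.Away g :=
    IsLocalization.liftAlgHom (M := Submonoid.powers qb) (f := ψ₀) (by
      rintro ⟨_, n, rfl⟩
      rw [map_pow]
      exact hq.pow n)
  have hψq : ∀ a, ψ (algebraMap (MvPolynomial σ R ⧸ Ideal.span {F}) _ a) = ψ₀ a := fun a => by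
    rw [IsLocalization.coe_liftAlgHom, IsLocalization.lift_eq]; rfl
  have hψ : Function.Surjective ψ := by
    intro z
    obtain ⟨p, n, hp⟩ := hsurj z
    obtain ⟨u, hu⟩ := (IsLocalization.Away.algebraMap_isUnit (S := Localization.Away qb) qb).exists_left_inv
    refine ⟨algebraMap (MvPolynomial σ R ⧸ Ideal.span {F}) (Localization.Away qb) (Ideal.Quotient.mk (Ideal.span {F}) p) * u ^ n, (hq.pow n).mul_left_injective ?_⟩
    show ψ _ * φ q ^ n = z * φ q ^ n
    rw [hp, show φ q = ψ (algebraMap _ _ qb) from (hψq qb).symm, ← map_pow, ← map_mul, mul_assoc,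
      ← mul_pow, hu, one_pow, mul_one, hψq]
    rfl
  refine ⟨c₁ * c₂ * c₃ * c₄, by simp [hc₁, hc₂, hc₃, hc₄], fun L _ _ _ hL => ?_⟩
  simp only [map_mul, mul_ne_zero_iff] at hL
  obtain ⟨⟨⟨h1, h2⟩, h3⟩, h4⟩ := hL
  haveI : Nontrivial (L ⊗[R] B) := nontrivial_of_ne _ _ (hnt L h3)
  have hkerψ : ∀ z, ψ z = 0 → (1 : L) ⊗ₜ[R] z = 0 := by
    intro z hz
    obtain ⟨a, ⟨y, m, rfl⟩, rfl⟩ := IsLocalization.exists_mk'_eq (Submonoid.powers qb) z
    rw [IsLocalization.coe_liftAlgHom, IsLocalization.lift_mk'_spec, mul_zero] at hz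
    obtain ⟨p, rfl⟩ := Ideal.Quotient.mk_surjective a
    have h0' := htor L h4 _ (tmul_eq_zero_of_dvd (hker p hz))
    have h5 := congrArg (Algebra.TensorProduct.map (AlgHom.id R L)
      (IsScalarTower.toAlgHom R (MvPolynomial σ R ⧸ Ideal.span {F}) (Localization.Away qb))) h0'
    simp only [Algebra.TensorProduct.map_tmul, map_one, map_zero, IsScalarTower.coe_toAlgHom'] at h5
    obtain ⟨u, hu⟩ := ((IsLocalization.Away.algebraMap_isUnit (S := Localization.Away qb) qb).pow m).exists_right_inv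
    rw [← IsLocalization.mk'_spec (Localization.Away qb) (Ideal.Quotient.mk (Ideal.span {F}) p)
      (⟨qb ^ m, m, rfl⟩ : Submonoid.powers qb)] at h5
    have h6 := congrArg (fun w => w * (1 : L) ⊗ₜ[R] u) h5
    simp only [Algebra.TensorProduct.tmul_mul_tmul, one_mul, zero_mul, map_pow, mul_assoc, hu, mul_one] at h6
    exact h6
  haveI := isDomain_tensor_quotient (L := L) F (hprime L h1)
  exact isDomain_of_away_equiv qb g (hnzd L h2) (AlgEquiv.ofBijective _ (bijective_tensor_map ψ hψ hkerψ))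

theorem mem_range_adjoin_mono {R : Type u} [CommRing R] {L₀ B : Type u} [Field L₀] [Algebra R L₀] [CommRing B]
    [Algebra R B] {T T' : Set L₀} (h : T ⊆ T') {z : L₀ ⊗[R] B}
    (hz : z ∈ Set.range (Algebra.TensorProduct.map (Algebra.adjoin R T).val (AlgHom.id R B))) :
    z ∈ Set.range (Algebra.TensorProduct.map (Algebra.adjoin R T').val (AlgHom.id R B)) := by
  obtain ⟨w, rfl⟩ := hz
  refine ⟨Algebra.TensorProduct.map (Subalgebra.inclusion (Algebra.adjoin_mono h)) (AlgHom.id R B) w, ?_⟩
  induction w with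
  | zero => simp
  | tmul a b => simp
  | add a b ha hb => simp [ha, hb]

theorem exists_finset_mem_range {R : Type u} [CommRing R] {L₀ B : Type u} [Field L₀] [Algebra R L₀] [CommRing B]
    [Algebra R B] (z : L₀ ⊗[R] B) :
    ∃ T : Finset L₀, z ∈ Set.range (Algebra.TensorProduct.map (Algebra.adjoin R (T : Set L₀)).val (AlgHom.id R B)) := by
  classical
  induction z with
  | zero => exact ⟨∅, 0, map_zero _⟩
  | tmul l b => exact ⟨{l}, ⟨l, Algebra.subset_adjoin (by simp)⟩ ⊗ₜ b, rfl⟩
  | add a b ha hb =>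
    obtain ⟨Ta, hTa⟩ := ha
    obtain ⟨Tb, hTb⟩ := hb
    obtain ⟨wa, hwa⟩ := mem_range_adjoin_mono (T' := ((Ta ∪ Tb : Finset L₀) : Set L₀)) (by simp) hTa
    obtain ⟨wb, hwb⟩ := mem_range_adjoin_mono (T' := ((Ta ∪ Tb : Finset L₀) : Set L₀)) (by simp) hTb
    exact ⟨Ta ∪ Tb, wa + wb, by rw [map_add, hwa, hwb]⟩

theorem exists_lift_poly {R : Type u} [CommRing R] {L₀ : Type u} [Field L₀] [Algebra R L₀] {σ : Type u}
    {T : Set L₀} (p : MvPolynomial σ L₀) (hp : (p.coeffs : Set L₀) ⊆ T) :
    ∃ p' : MvPolynomial σ (Algebra.adjoin R T), MvPolynomial.map (Algebra.adjoin R T).val.toRingHom p' = p :=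
  MvPolynomial.mem_range_map_iff_coeffs_subset.2 fun x hx => ⟨⟨x, Algebra.subset_adjoin (hp hx)⟩, rfl⟩

/-- The stage of a free algebra injects into the closure. -/
theorem injective_stage {R : Type u} [CommRing R] {L₀ : Type u} [Field L₀] [Algebra R L₀] (R' : Subalgebra R L₀)
    (B : Type u) [CommRing B] [Algebra R B] [Module.Free R' (R' ⊗[R] B)] :
    Function.Injective (Algebra.TensorProduct.map R'.val (AlgHom.id R B)) := by
  intro a b hab
  refine one_tmul_injective (L := L₀) (A := R') Subtype.val_injective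
    ((AlgebraTensorModule.cancelBaseChange R R' L₀ L₀ B).injective ?_)
  have key : ∀ w, AlgebraTensorModule.cancelBaseChange R R' L₀ L₀ B ((1 : L₀) ⊗ₜ[R'] w) =
      Algebra.TensorProduct.map R'.val (AlgHom.id R B) w := fun w => by
    induction w with
    | zero => rw [tmul_zero]; exact (LinearEquiv.map_zero _).trans (map_zero _).symm
    | tmul r b' =>
      rw [AlgebraTensorModule.cancelBaseChange_tmul, Algebra.TensorProduct.map_tmul, Algebra.smul_def, mul_one]
      rfl
    | add x y hx hy => rw [tmul_add, LinearEquiv.map_add, map_add, hx, hy]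
  rw [key, key, hab]

set_option maxHeartbeats 4000000 in
set_option synthInstance.maxHeartbeats 100000 in
/-- Geometric integrality spreads out. -/
theorem exists_isDomain_near {R : Type u} [CommRing R] [IsDomain R] {L₀ : Type u} [Field L₀] [IsAlgClosed L₀]
    [Algebra R L₀] [FaithfulSMul R L₀] [Algebra.IsAlgebraic R L₀] (B : Type u) [CommRing B] [Algebra R B]
    [Algebra.FiniteType R B] [IsDomain (L₀ ⊗[R] B)] : Near R (fun L => IsDomain (L ⊗[R] B)) := by
  classical
  obtain ⟨c, hc, hfree⟩ := exists_free_near (R := R) B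
  obtain ⟨σ, _, F₀, q₀, g₀, φ₀, hg₀, hF₀, hF₀p, hq₀, hFφ, hsurj₀, hker₀⟩ :=
    exists_birational_hypersurface L₀ (L₀ ⊗[R] B)
  haveI := Fintype.ofFinite σ
  obtain ⟨gens, hgens⟩ := ‹Algebra.FiniteType R B›.out
  -- data over the closure
  choose kX aX haX using fun i : σ => IsLocalization.Away.surj g₀ (φ₀ (MvPolynomial.X i))
  obtain ⟨uinv, huinv⟩ := hq₀.exists_right_inv
  obtain ⟨ku, au, hau⟩ := IsLocalization.Away.surj g₀ uinv
  obtain ⟨ginv, hginv⟩ := (IsLocalization.Away.algebraMap_isUnit (S := Localization.Away g₀) g₀).exists_right_inv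
  obtain ⟨pinv, ninv, hpinv⟩ := hsurj₀ ginv
  choose pb nb hpb using fun b : B => hsurj₀ (algebraMap (L₀ ⊗[R] B) _ ((1 : L₀) ⊗ₜ[R] b))
  choose Tz hTz using fun z : L₀ ⊗[R] B => exists_finset_mem_range z
  let T : Finset L₀ := {(algebraMap R L₀ c)⁻¹} ∪ F₀.coeffs ∪ q₀.coeffs ∪ pinv.coeffs ∪
    (gens.biUnion fun b => (pb b).coeffs) ∪ Tz g₀ ∪ Tz au ∪ Finset.univ.biUnion fun i => Tz (aX i)
  refine near_of_adjoin T ?_
  -- the stage
  let R' := Algebra.adjoin R (T : Set L₀)
  haveI : FaithfulSMul R' L₀ := (faithfulSMul_iff_algebraMap_injective _ _).2 Subtype.val_injective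
  have hcu : IsUnit (algebraMap R R' c) := by
    refine IsUnit.of_mul_eq_one ⟨(algebraMap R L₀ c)⁻¹, Algebra.subset_adjoin (by simp [T])⟩ (Subtype.ext ?_)
    exact mul_inv_cancel₀ fun h => hc ((FaithfulSMul.algebraMap_injective R L₀) (h.trans (map_zero _).symm))
  letI : Algebra (Localization.Away c) R' := (IsLocalization.Away.lift (S := Localization.Away c) c hcu).toAlgebra
  haveI : IsScalarTower R (Localization.Away c) R' :=
    IsScalarTower.of_algebraMap_eq fun x => (IsLocalization.Away.lift_eq c hcu x).symm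
  haveI := hfree
  haveI : Module.Free R' (R' ⊗[R] B) :=
    Module.Free.of_equiv (AlgebraTensorModule.cancelBaseChange R (Localization.Away c) R' R' B)
  let j : R' ⊗[R] B →ₐ[R] L₀ ⊗[R] B := Algebra.TensorProduct.map R'.val (AlgHom.id R B)
  have hjinj : Function.Injective j := injective_stage R' B
  have hmem : ∀ z, (Tz z : Set L₀) ⊆ T → ∃ z', j z' = z := fun z h => mem_range_adjoin_mono h (hTz z)
  obtain ⟨g, hg⟩ := hmem g₀ (fun x hx => by simp only [T, Finset.coe_union, Set.mem_union]; tauto)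
  obtain ⟨au', hau'⟩ := hmem au (fun x hx => by simp only [T, Finset.coe_union, Set.mem_union]; tauto)
  choose aX' haX' using fun i => hmem (aX i) (by
    intro x hx
    simp only [T, Finset.coe_union, Set.mem_union, Finset.coe_biUnion, Set.mem_iUnion]
    exact Or.inr ⟨i, by simp, hx⟩)
  obtain ⟨F, hF⟩ := exists_lift_poly (R := R) (T := (T : Set L₀)) F₀ (fun x hx => by simp only [T, Finset.coe_union, Set.mem_union]; tauto)
  obtain ⟨q, hq⟩ := exists_lift_poly (R := R) (T := (T : Set L₀)) q₀ (fun x hx => by simp only [T, Finset.coe_union, Set.mem_union]; tauto)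
  obtain ⟨pi', hpi'⟩ := exists_lift_poly (R := R) (T := (T : Set L₀)) pinv (fun x hx => by simp only [T, Finset.coe_union, Set.mem_union]; tauto)
  choose pb' hpb' using fun (b : B) (hb : b ∈ gens) => exists_lift_poly (R := R) (T := (T : Set L₀)) (pb b)
    (fun x hx => by
      have h' : x ∈ ((gens.biUnion fun b => (pb b).coeffs : Finset L₀) : Set L₀) := Finset.mem_biUnion.2 ⟨b, hb, hx⟩
      simp only [T, Finset.coe_union, Set.mem_union]; tauto)
  -- the map at the stage
  have hunit : ∀ y : Submonoid.powers g, IsUnit ((algebraMap (L₀ ⊗[R] B) (Localization.Away g₀)).comp j.toRingHom y) := by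
    rintro ⟨_, n, rfl⟩
    show IsUnit (algebraMap _ _ (j (g ^ n)))
    rw [map_pow, hg, map_pow]
    exact (IsLocalization.Away.algebraMap_isUnit g₀).pow n
  let jl : Localization.Away g →+* Localization.Away g₀ := IsLocalization.lift (M := Submonoid.powers g) hunit
  have hjl : ∀ w, jl (algebraMap _ _ w) = algebraMap _ _ (j w) := fun w => IsLocalization.lift_eq hunit w
  have hjlinj : Function.Injective jl := by
    refine (injective_iff_map_eq_zero _).2 fun z hz => ?_
    obtain ⟨w, y, rfl⟩ := IsLocalization.exists_mk'_eq (Submonoid.powers g) z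
    rw [IsLocalization.lift_mk'_spec, mul_zero] at hz
    obtain ⟨⟨_, n, rfl⟩, hn⟩ := (IsLocalization.map_eq_zero_iff (Submonoid.powers g₀) _ _).1 hz
    refine (IsLocalization.mk'_eq_zero_iff _ _).2 ⟨⟨g ^ n, n, rfl⟩, hjinj ?_⟩
    rw [map_zero, map_mul, map_pow, hg]
    exact hn
  let gu := (IsLocalization.Away.algebraMap_isUnit (S := Localization.Away g) g).unit⁻¹
  have hgu : ∀ k : ℕ, jl ↑(gu ^ k) * algebraMap _ (Localization.Away g₀) g₀ ^ k = 1 := fun k => by
    have e : algebraMap _ (Localization.Away g₀) g₀ = jl (algebraMap _ _ g) := by rw [hjl, hg]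
    rw [Units.val_pow_eq_pow_val, map_pow, ← mul_pow, e, ← map_mul, IsUnit.val_inv_mul, map_one, one_pow]
  let φ : MvPolynomial σ R' →ₐ[R'] Localization.Away g :=
    MvPolynomial.aeval fun i => algebraMap _ _ (aX' i) * ↑(gu ^ kX i)
  have hjφ : ∀ p, jl (φ p) = φ₀ (MvPolynomial.map R'.val.toRingHom p) := by
    intro p
    have h : jl.comp φ.toRingHom = φ₀.toRingHom.comp (MvPolynomial.map R'.val.toRingHom) := by
      refine MvPolynomial.ringHom_ext (fun r => ?_) (fun i => ?_)
      · simp only [RingHom.comp_apply, AlgHom.toRingHom_eq_coe, RingHom.coe_coe, MvPolynomial.map_C]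
        rw [← MvPolynomial.algebraMap_eq, ← MvPolynomial.algebraMap_eq, AlgHom.commutes, AlgHom.commutes,
          IsScalarTower.algebraMap_apply R' (R' ⊗[R] B) (Localization.Away g), hjl,
          IsScalarTower.algebraMap_apply L₀ (L₀ ⊗[R] B) (Localization.Away g₀)]
        rfl
      · simp only [RingHom.comp_apply, AlgHom.toRingHom_eq_coe, RingHom.coe_coe, MvPolynomial.map_X, φ,
          MvPolynomial.aeval_X, map_mul, hjl, haX']
        refine ((IsLocalization.Away.algebraMap_isUnit g₀).pow (kX i)).mul_left_injective ?_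
        show _ * _ * _ = _ * _
        rw [mul_assoc, hgu, mul_one]
        exact (haX i).symm
    exact RingHom.congr_fun h p
  have hφF : φ F = 0 := hjlinj (by rw [hjφ, hF, hFφ, map_zero])
  have hφq : IsUnit (φ q) := by
    refine IsUnit.of_mul_eq_one (algebraMap _ _ au' * ↑(gu ^ ku)) (hjlinj ?_)
    rw [map_mul, map_one, hjφ, hq, map_mul, hjl, hau']
    refine ((IsLocalization.Away.algebraMap_isUnit g₀).pow ku).mul_left_injective ?_
    show _ * _ = _ * _
    rw [one_mul, mul_assoc, mul_assoc, hgu, mul_one, ← hau, ← mul_assoc, huinv, one_mul]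
  have hsurj : ∀ z, ∃ p n, z * φ q ^ n = φ p := by
    let P : Localization.Away g → Prop := fun z => ∃ p n, z * φ q ^ n = φ p
    have hadd : ∀ a b, P a → P b → P (a + b) := by
      rintro a b ⟨p, n, hp⟩ ⟨p', n', hp'⟩
      exact ⟨p * q ^ n' + p' * q ^ n, n + n', by rw [map_add, map_mul, map_mul, map_pow, map_pow, ← hp, ← hp']; ring⟩
    have hmul : ∀ a b, P a → P b → P (a * b) := by
      rintro a b ⟨p, n, hp⟩ ⟨p', n', hp'⟩
      exact ⟨p * p', n + n', by rw [map_mul, ← hp, ← hp']; ring⟩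
    have hconst : ∀ r : R', P (algebraMap R' _ r) := fun r => ⟨MvPolynomial.C r, 0, by simp [φ]⟩
    have hbase : ∀ b : B, P (algebraMap _ _ ((1 : R') ⊗ₜ[R] b)) := by
      intro b
      have hb : b ∈ Algebra.adjoin R (gens : Set B) := by rw [hgens]; trivial
      induction hb using Algebra.adjoin_induction with
      | mem b hb =>
        refine ⟨pb' b hb, nb b, hjlinj ?_⟩
        rw [map_mul, map_pow, hjl, hjφ, hjφ, hq, hpb', ← hpb b]
        simp [j]
      | algebraMap r =>
        have h := hconst (algebraMap R R' r)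
        rwa [IsScalarTower.algebraMap_apply R' (R' ⊗[R] B) (Localization.Away g),
          Algebra.TensorProduct.algebraMap_apply, Algebra.algebraMap_self, RingHom.id_apply,
          Algebra.algebraMap_eq_smul_one r, smul_tmul, ← Algebra.algebraMap_eq_smul_one] at h
      | add a b _ _ ha hb => rw [tmul_add, map_add]; exact hadd _ _ ha hb
      | mul a b _ _ ha hb =>
        rw [show (1 : R') ⊗ₜ[R] (a * b) = (1 : R') ⊗ₜ[R] a * (1 : R') ⊗ₜ[R] b from by
          rw [Algebra.TensorProduct.tmul_mul_tmul, one_mul], map_mul]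
        exact hmul _ _ ha hb
    have hall : ∀ w : R' ⊗[R] B, P (algebraMap (R' ⊗[R] B) _ w) := by
      intro w
      induction w with
      | zero => exact ⟨0, 0, by simp⟩
      | tmul r b =>
        rw [show r ⊗ₜ[R] b = algebraMap R' (R' ⊗[R] B) r * (1 : R') ⊗ₜ[R] b from by
          simp [Algebra.TensorProduct.algebraMap_apply], map_mul, ← IsScalarTower.algebraMap_apply]
        exact hmul _ _ (hconst r) (hbase b)
      | add a b ha hb => rw [map_add]; exact hadd _ _ ha hb
    have hinv : P ↑gu := by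
      refine ⟨pi', ninv, hjlinj ?_⟩
      rw [map_mul, map_pow, hjφ, hjφ, hq, hpi', ← hpinv]
      refine congrArg (· * _) ?_
      have h1 := hgu 1
      rw [pow_one, pow_one] at h1
      calc jl ↑gu = jl ↑gu * (algebraMap _ (Localization.Away g₀) g₀ * ginv) := by rw [hginv, mul_one]
        _ = ginv := by rw [← mul_assoc, h1, one_mul]
    have hinv' : ∀ k : ℕ, P (↑gu ^ k) := fun k => by
      induction k with
      | zero => exact ⟨1, 0, by simp⟩
      | succ k ih => rw [pow_succ]; exact hmul _ _ ih hinv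
    intro z
    obtain ⟨k, w, hw⟩ := IsLocalization.Away.surj g z
    have : z = algebraMap _ _ w * (↑gu : Localization.Away g) ^ k := by
      rw [← hw, mul_assoc, ← mul_pow, IsUnit.mul_val_inv, one_pow, mul_one]
    rw [this]
    exact hmul _ _ (hall w) (hinv' k)
  -- the core
  let ee := Algebra.TensorProduct.cancelBaseChange R R' L₀ L₀ B
  haveI : IsDomain (L₀ ⊗[R'] (R' ⊗[R] B)) := MulEquiv.isDomain _ ee.toRingEquiv.toMulEquiv
  have hval : R'.val.toRingHom = algebraMap R' L₀ := rfl
  refine (isDomain_near_core (L₀ := L₀) (R' ⊗[R] B) F q g φ hφq hφF hsurj (fun p hp => ?_) ?_ ?_ ?_).mono ?_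
  · rw [← hval, hF]
    exact hker₀ _ (by rw [← hjφ, hp, map_zero])
  · rw [← hval, hF]; exact hF₀
  · rw [← hval, hF]; exact hF₀p
  · intro h
    refine hg₀ ?_
    rw [← hg, show g = 0 from one_tmul_injective (L := L₀) Subtype.val_injective (by simpa using h), map_zero]
  · intro L _ _ _ hdom
    intro _ _
    exact MulEquiv.isDomain _ (Algebra.TensorProduct.cancelBaseChange R R' L L B).symm.toRingEquiv.toMulEquiv

end Groth.Agent.H1Spread
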