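import Groth.Agent.H1Spread.Pieces
import Groth.Prelude.Def_MoreMor
import Mathlib

/-!
# The number of irreducible components of a geometric fibre near the generic point
-/

universe u

set_option backward.isDefEq.respectTransparency false
set_option backward.isDefEq.respectTransparency.types false
set_option maxHeartbeats 1000000
set_option linter.style.haveILetI false

open AlgebraicGeometry CategoryTheory CategoryTheory.Limits TopologicalSpace TensorProduct IsLocalRing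

noncomputable section

namespace Groth.Agent.H1Spread

/-- Not being in a prime fibre ideal persists near the generic point. -/
theorem tmul_not_mem_fibI_near {R : Type u} [CommRing R] [IsDomain R] (L₀ : Type u) [Field L₀] [IsAlgClosed L₀]
    [Algebra R L₀] [FaithfulSMul R L₀] [Algebra.IsAlgebraic R L₀] {B : Type u} [CommRing B] [Algebra R B]
    [Algebra.FiniteType R B] (I : Ideal B) (hI : (fibI R L₀ I).IsPrime) (b : B)
    (hb : (1 : L₀) ⊗ₜ[R] b ∉ fibI R L₀ I) : Near R (fun L => (1 : L) ⊗ₜ[R] b ∉ fibI R L I) := by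
  classical
  haveI : IsJacobsonRing (L₀ ⊗[R] B) := isJacobsonRing_of_finiteType (A := L₀)
  obtain ⟨m, hmax, hIm, hbm⟩ : ∃ m : Ideal (L₀ ⊗[R] B), m.IsMaximal ∧ fibI R L₀ I ≤ m ∧ (1 : L₀) ⊗ₜ[R] b ∉ m := by
    by_contra h
    push Not at h
    refine hb ?_
    rw [← IsJacobsonRing.out (inferInstance : IsJacobsonRing (L₀ ⊗[R] B)) hI.isRadical, Ideal.jacobson, Ideal.mem_sInf]
    exact fun {J} hJ => h J hJ.2 hJ.1
  letI := Ideal.Quotient.field m
  haveI : Module.Finite L₀ ((L₀ ⊗[R] B) ⧸ m) := finite_of_finite_type_of_isJacobsonRing L₀ _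
  let ε := AlgEquiv.ofBijective (Algebra.ofId L₀ ((L₀ ⊗[R] B) ⧸ m))
    (IsAlgClosed.algebraMap_bijective_of_isIntegral (k := L₀) (K := (L₀ ⊗[R] B) ⧸ m))
  let π : L₀ ⊗[R] B →ₐ[L₀] L₀ := ε.symm.toAlgHom.comp (Ideal.Quotient.mkₐ L₀ m)
  let α : B →ₐ[R] L₀ := (π.restrictScalars R).comp Algebra.TensorProduct.includeRight
  have hα : ∀ z, α z = 0 ↔ (1 : L₀) ⊗ₜ[R] z ∈ m := fun z => by
    show ε.symm (Ideal.Quotient.mk m _) = 0 ↔ _
    rw [map_eq_zero_iff _ ε.symm.injective, Ideal.Quotient.eq_zero_iff_mem]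
    exact Iff.rfl
  obtain ⟨G, hG⟩ := ‹Algebra.FiniteType R B›.out
  refine near_of_adjoin (G.image α ∪ {(α b)⁻¹}) ⟨1, one_ne_zero, fun L _ _ _ _ _ _ => ?_⟩
  have hrange : ∀ z, α z ∈ Algebra.adjoin R ((G.image α ∪ {(α b)⁻¹} : Finset L₀) : Set L₀) := by
    intro z
    refine Algebra.adjoin_mono (s := ((G.image α : Finset L₀) : Set L₀)) (by simp) ?_
    rw [Finset.coe_image, ← AlgHom.map_adjoin, hG]
    exact ⟨z, trivial, rfl⟩
  let R' := Algebra.adjoin R ((G.image α ∪ {(α b)⁻¹} : Finset L₀) : Set L₀)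
  let α' : B →ₐ[R] R' := α.codRestrict _ hrange
  let φ : B →ₐ[R] L := (IsScalarTower.toAlgHom R R' L).comp α'
  let evφ : L ⊗[R] B →ₐ[L] L := Algebra.TensorProduct.lift (AlgHom.id L L) φ fun _ _ => Commute.all _ _
  have hev : ∀ z, evφ ((1 : L) ⊗ₜ[R] z) = φ z := fun z => by
    show Algebra.TensorProduct.lift _ _ _ _ = _
    rw [Algebra.TensorProduct.lift_tmul, map_one, one_mul]
  intro hmem
  have hle : fibI R L I ≤ RingHom.ker evφ := Ideal.map_le_iff_le_comap.2 fun z hz => by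
    rw [Ideal.mem_comap, RingHom.mem_ker]
    show evφ ((1 : L) ⊗ₜ[R] z) = 0
    have h0 : α' z = 0 := Subtype.ext ((hα z).2 (hIm (Ideal.mem_map_of_mem _ hz)))
    rw [hev]
    exact (congrArg (IsScalarTower.toAlgHom R R' L) h0).trans (map_zero _)
  have hu : IsUnit (α' b) := by
    refine IsUnit.of_mul_eq_one ⟨(α b)⁻¹, Algebra.subset_adjoin (by simp)⟩ (Subtype.ext ?_)
    exact mul_inv_cancel₀ (fun h => hbm ((hα b).1 h))
  have h2 : φ b = 0 := by rw [← hev]; exact hle hmem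
  exact (hu.map (IsScalarTower.toAlgHom R R' L)).ne_zero h2

variable {R : Type u} [CommRing R] {X : Scheme.{u}} {g : X ⟶ Spec (CommRingCat.of R)} (𝔄 : Atlas g)

namespace Atlas

section Irred

variable {J : 𝔄.κ → Type u} (I : ∀ k, J k → Ideal (𝔄.B k)) {n : ℕ} (e : 𝔄.κ ≃ Fin n)

/-- The union of the earlier charts. -/
def earlier (k : 𝔄.κ) : Set X := ⋃ (l : 𝔄.κ) (_ : e l < e k), Set.range (𝔄.u l)

/-- Elements whose basic open lies in an earlier chart. -/
def earlierElts (k : 𝔄.κ) : Set (𝔄.B k) :=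
  {s | ∀ p : PrimeSpectrum (𝔄.B k), s ∉ p.asIdeal → 𝔄.u k p ∈ 𝔄.earlier e k}

theorem mem_earlier_iff (k : 𝔄.κ) (p : PrimeSpectrum (𝔄.B k)) :
    𝔄.u k p ∈ 𝔄.earlier e k ↔ ∃ s ∈ 𝔄.earlierElts e k, s ∉ p.asIdeal := by
  refine ⟨fun h => ?_, fun ⟨s, hs, hsp⟩ => hs p hsp⟩
  have hopen : IsOpen (𝔄.earlier e k) :=
    isOpen_iUnion fun l => isOpen_iUnion fun _ => (𝔄.u l).isOpenEmbedding.isOpen_range
  obtain ⟨_, ⟨s, rfl⟩, hsp, hs⟩ :=
    PrimeSpectrum.isTopologicalBasis_basic_opens.exists_subset_of_mem_open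
      (show p ∈ (𝔄.u k) ⁻¹' 𝔄.earlier e k from h) (hopen.preimage (𝔄.u k).continuous)
  exact ⟨s, fun q hq => hs hq, hsp⟩

/-- A piece not starting in an earlier chart. -/
def IsFirst (L : Type u) [CommRing L] [Algebra R L] (i : Σ k, J k) : Prop :=
  ∀ s ∈ 𝔄.earlierElts e i.1, (1 : L) ⊗ₜ[R] s ∈ fibI R L (I i.1 i.2)

theorem encard_irreducibleComponents (L : Type u) [Field L] [Algebra R L]
    (hp : ∀ i : Σ k, J k, (fibI R L (I i.1 i.2)).IsPrime)
    (hc : ∀ k, ∀ q : Ideal (L ⊗[R] 𝔄.B k), q.IsPrime → ∃ j, fibI R L (I k j) ≤ q)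
    (hinc : ∀ k, ∀ j j' : J k, fibI R L (I k j) ≤ fibI R L (I k j') → j = j') :
    (irreducibleComponents ↥(pullback g (sp R L))).encard = {i : Σ k, J k | 𝔄.IsFirst I e L i}.encard := by
  let pt : (Σ k, J k) → ↥(pullback g (sp R L)) := fun i => 𝔄.piece L i.1 (⟨_, hp i⟩ : PrimeSpectrum _)
  have hmax : ∀ i z, z ⤳ pt i → z = pt i := by
    rintro ⟨k, j⟩ z hz
    obtain ⟨q, rfl⟩ : z ∈ Set.range (𝔄.piece L k) :=
      hz.mem_open (𝔄.piece L k).isOpenEmbedding.isOpen_range ⟨_, rfl⟩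
    have hle : q.asIdeal ≤ fibI R L (I k j) :=
      (PrimeSpectrum.le_iff_specializes q (⟨_, hp ⟨k, j⟩⟩ : PrimeSpectrum _)).2
        ((𝔄.piece L k).isOpenEmbedding.isInducing.specializes_iff.1 hz)
    obtain ⟨j', hj'⟩ := hc k q.asIdeal q.2
    obtain rfl := hinc k j' j (hj'.trans hle)
    exact congrArg (𝔄.piece L k) (PrimeSpectrum.ext (le_antisymm hle hj'))
  have hcomp : ∀ i, closure {pt i} ∈ irreducibleComponents ↥(pullback g (sp R L)) := by
    intro i
    refine ⟨isIrreducible_singleton.closure, fun T hT hsub => ?_⟩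
    have hη := hT.isGenericPoint_genericPoint_closure
    have h := hmax i hT.genericPoint (hη.specializes (subset_closure (hsub (subset_closure rfl))))
    intro t ht
    rw [← h]
    exact specializes_iff_mem_closure.1 (hη.specializes (subset_closure ht))
  have hinj : ∀ i i', closure {pt i} = closure {pt i'} → pt i = pt i' := fun i i' h =>
    ((specializes_iff_mem_closure.2 (h ▸ subset_closure rfl : pt i' ∈ closure {pt i})).antisymm
      (specializes_iff_mem_closure.2 (h.symm ▸ subset_closure rfl : pt i ∈ closure {pt i'}))).eq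
  have hfst : ∀ i : Σ k, J k, (∀ l, e l < e i.1 → pt i ∉ Set.range (𝔄.piece L l)) ↔ 𝔄.IsFirst I e L i := by
    rintro ⟨k, j⟩
    constructor
    · intro h s hs
      by_contra hs'
      have h1 := hs (PrimeSpectrum.comap
        (Algebra.TensorProduct.includeRight : 𝔄.B k →ₐ[R] L ⊗[R] 𝔄.B k).toRingHom ⟨_, hp ⟨k, j⟩⟩) hs'
      rw [earlier, Set.mem_iUnion₂] at h1
      obtain ⟨l, hl, hmem⟩ := h1
      refine h l hl ?_
      rw [𝔄.range_piece, Set.mem_preimage, 𝔄.fst_piece_apply]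
      exact hmem
    · intro h l hl hmem
      rw [𝔄.range_piece, Set.mem_preimage, 𝔄.fst_piece_apply] at hmem
      obtain ⟨s, hs, hsp⟩ := (𝔄.mem_earlier_iff e k _).1 (Set.mem_iUnion₂.2 ⟨l, hl, hmem⟩)
      exact hsp (h s hs)
  refine (Set.encard_congr (Equiv.ofBijective
    (fun i : {i : Σ k, J k | 𝔄.IsFirst I e L i} =>
      (⟨closure {pt i.1}, hcomp i.1⟩ : irreducibleComponents ↥(pullback g (sp R L)))) ⟨?_, ?_⟩)).symm
  · rintro ⟨⟨k, j⟩, hi⟩ ⟨⟨k', j'⟩, hi'⟩ h
    have h' := hinj _ _ (congrArg Subtype.val h)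
    obtain rfl : k = k' := by
      by_contra hne
      rcases lt_or_gt_of_ne (fun h => hne (e.injective h)) with hlt | hlt
      · exact (hfst ⟨k', j'⟩).2 hi' k hlt (h'.symm ▸ ⟨_, rfl⟩)
      · exact (hfst ⟨k, j⟩).2 hi k' hlt (h'.symm ▸ ⟨_, rfl⟩)
    have h2 : fibI R L (I k j) = fibI R L (I k j') :=
      congrArg PrimeSpectrum.asIdeal ((𝔄.piece L k).isOpenEmbedding.injective h')
    obtain rfl := hinc k j j' h2.le
    rfl
  · rintro ⟨T, hT⟩
    have hTc := isClosed_of_mem_irreducibleComponents T hT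
    let η := hT.1.genericPoint
    have hη : IsGenericPoint η T := by
      have := hT.1.isGenericPoint_genericPoint_closure
      rwa [hTc.closure_eq] at this
    classical
    haveI := Fintype.ofFinite 𝔄.κ
    obtain ⟨k, hk, hkmin⟩ := Finset.exists_min_image (Finset.univ.filter fun k => η ∈ Set.range (𝔄.piece L k))
      e (by obtain ⟨k, hk⟩ := 𝔄.exists_mem_range_piece L η; exact ⟨k, Finset.mem_filter.2 ⟨Finset.mem_univ _, hk⟩⟩)
    obtain ⟨q, hq⟩ := (Finset.mem_filter.1 hk).2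
    obtain ⟨j, hj⟩ := hc k q.asIdeal q.2
    have hsp : pt ⟨k, j⟩ ⤳ η := by
      rw [← hq]
      exact ((PrimeSpectrum.le_iff_specializes (⟨_, hp ⟨k, j⟩⟩ : PrimeSpectrum _) q).1 hj).map
        (𝔄.piece L k).continuous
    have hmem : T ⊆ closure {pt ⟨k, j⟩} := by
      intro t ht
      exact specializes_iff_mem_closure.1 (hsp.trans (hη.specializes ht))
    have hTeq : closure {pt ⟨k, j⟩} = T :=
      le_antisymm (hT.2 (hcomp ⟨k, j⟩).1 hmem) hmem
    have hpt : pt ⟨k, j⟩ = η :=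
      (hsp.antisymm (hη.specializes (hTeq.le (subset_closure rfl)))).eq
    refine ⟨⟨⟨k, j⟩, (hfst ⟨k, j⟩).1 fun l hl hl' => ?_⟩, Subtype.ext hTeq⟩
    exact (not_lt.2 (hkmin l (Finset.mem_filter.2 ⟨Finset.mem_univ _, hpt ▸ hl'⟩))) hl

theorem encard_near [IsDomain R] (L₀ : Type u) [Field L₀] [IsAlgClosed L₀] [Algebra R L₀] [FaithfulSMul R L₀]
    [Algebra.IsAlgebraic R L₀] [∀ k, Finite (J k)] (hfg : ∀ i : Σ k, J k, (I i.1 i.2).FG)
    (hp : ∀ i : Σ k, J k, (fibI R L₀ (I i.1 i.2)).IsPrime)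
    (hc : ∀ k, ∀ q : Ideal (L₀ ⊗[R] 𝔄.B k), q.IsPrime → ∃ j, fibI R L₀ (I k j) ≤ q)
    (hinc : ∀ k, ∀ j j' : J k, fibI R L₀ (I k j) ≤ fibI R L₀ (I k j') → j = j') :
    Near R (fun L => (irreducibleComponents ↥(pullback g (sp R L))).encard =
      (irreducibleComponents ↥(pullback g (sp R L₀))).encard) := by
  obtain ⟨n, ⟨e⟩⟩ := Finite.exists_equiv_fin 𝔄.κ
  have h1 := Near.all fun i : Σ k, J k => isPrime_near L₀ (I i.1 i.2) (hp i)
  have h2 := Near.all fun k => exists_le_prime_near L₀ (I k) (fun j => hfg ⟨k, j⟩) (hc k)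
  have h3 := Near.all fun p : Σ k, J k × J k =>
    (show Near R (fun L => fibI R L (I p.1 p.2.1) ≤ fibI R L (I p.1 p.2.2) → p.2.1 = p.2.2) by
      by_cases h : p.2.1 = p.2.2
      · exact ⟨1, one_ne_zero, fun L _ _ _ _ _ => h⟩
      · have : ∃ b ∈ I p.1 p.2.1, (1 : L₀) ⊗ₜ[R] b ∉ fibI R L₀ (I p.1 p.2.2) := by
          by_contra hcon
          push Not at hcon
          exact h (hinc p.1 _ _ (Ideal.map_le_iff_le_comap.2 fun b hb => hcon b hb))
        obtain ⟨b, hb, hb'⟩ := this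
        exact (tmul_not_mem_fibI_near L₀ _ (hp ⟨p.1, p.2.2⟩) b hb').mono fun L _ _ _ hL hle =>
          absurd (hle (Ideal.mem_map_of_mem _ hb)) hL)
  have h4 := Near.all fun i : Σ k, J k =>
    (show Near R (fun L => 𝔄.IsFirst I e L i ↔ 𝔄.IsFirst I e L₀ i) by
      by_cases h : 𝔄.IsFirst I e L₀ i
      · exact (tmul_mem_fibI_near L₀ (I i.1 i.2)).mono fun L _ _ _ hL =>
          ⟨fun _ => h, fun _ s hs => hL s (h s hs)⟩
      · obtain ⟨s, hs, hs'⟩ : ∃ s ∈ 𝔄.earlierElts e i.1, (1 : L₀) ⊗ₜ[R] s ∉ fibI R L₀ (I i.1 i.2) := by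
          by_contra hcon
          push Not at hcon
          exact h hcon
        exact (tmul_not_mem_fibI_near L₀ _ (hp i) s hs').mono fun L _ _ _ hL =>
          ⟨fun hf => absurd (hf s hs) hL, fun hf => absurd (hf s hs) hs'⟩)
  refine ((h1.and h2).and (h3.and h4)).mono fun L _ _ _ h => ?_
  rw [𝔄.encard_irreducibleComponents I e L h.1.1 h.1.2 (fun k j j' hle => h.2.1 ⟨k, j, j'⟩ hle),
    𝔄.encard_irreducibleComponents I e L₀ hp hc hinc]
  exact congrArg Set.encard (Set.ext fun i => h.2.2 i)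

end Irred

end Atlas

theorem encard_irreducibleComponents_iso {A B : Scheme.{u}} (e : A ≅ B) :
    (irreducibleComponents ↥A).encard = (irreducibleComponents ↥B).encard :=
  let H := e.hom.homeomorph
  (Set.encard_congr (irreducibleComponentsEquivOfIsPreirreducibleFiber H H.continuous H.isOpenMap
    (fun _ => Set.Subsingleton.isPreirreducible ((Set.subsingleton_singleton).preimage H.injective))
    H.surjective).toEquiv).symm

set_option maxHeartbeats 4000000 in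
set_option synthInstance.maxHeartbeats 200000 in
/-- The number of irreducible components of the geometric fibres is constant near the generic point. -/
theorem exists_irred_near [IsDomain R] (g : X ⟶ Spec (CommRingCat.of R)) [LocallyOfFiniteType g] [QuasiCompact g]
    (L₀ : Type u) [Field L₀] [IsAlgClosed L₀] [Algebra R L₀] [FaithfulSMul R L₀] [Algebra.IsAlgebraic R L₀] :
    Near R (fun L => (irreducibleComponents ↥(pullback g (sp R L))).encard =
      (irreducibleComponents ↥(pullback g (sp R L₀))).encard) := by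
  classical
  obtain ⟨𝔄⟩ := exists_atlas g
  haveI : ∀ k, IsNoetherianRing (L₀ ⊗[R] 𝔄.B k) := fun k => Algebra.FiniteType.isNoetherianRing L₀ _
  let J : 𝔄.κ → Type u := fun k => ↥(minimalPrimes (L₀ ⊗[R] 𝔄.B k))
  haveI : ∀ k, Finite (J k) := fun k => (minimalPrimes.finite_of_isNoetherianRing _).to_subtype
  choose G hG using fun (i : Σ k, J k) => IsNoetherian.noetherian (i.2.1 : Ideal (L₀ ⊗[R] 𝔄.B i.1))
  choose Tz hTz using fun (k : 𝔄.κ) (z : L₀ ⊗[R] 𝔄.B k) => exists_finset_mem_range z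
  haveI := Fintype.ofFinite (Σ k, J k)
  let T : Finset L₀ := Finset.univ.biUnion fun i : Σ k, J k => (G i).biUnion (Tz i.1)
  refine near_of_adjoin T ?_
  let R' := Algebra.adjoin R (T : Set L₀)
  haveI : FaithfulSMul R' L₀ := (faithfulSMul_iff_algebraMap_injective _ _).2 Subtype.val_injective
  haveI : Algebra.IsAlgebraic R' L₀ := Algebra.IsAlgebraic.extendScalars (R := R)
    (show Function.Injective (algebraMap R R') from fun x y h =>
      FaithfulSMul.algebraMap_injective R L₀ (congrArg Subtype.val h))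
  let 𝔄' := 𝔄.baseChange R'
  have hl : ∀ (i : Σ k, J k), ∀ z ∈ G i, ∃ w : R' ⊗[R] 𝔄.B i.1,
      Algebra.TensorProduct.map R'.val (AlgHom.id R (𝔄.B i.1)) w = z := fun i z hz =>
    mem_range_adjoin_mono (fun x hx => Finset.mem_biUnion.2 ⟨i, Finset.mem_univ _, Finset.mem_biUnion.2 ⟨z, hz, hx⟩⟩)
      (hTz i.1 z)
  choose w hw using hl
  let e : ∀ k, L₀ ⊗[R'] (R' ⊗[R] 𝔄.B k) ≃ₐ[L₀] L₀ ⊗[R] 𝔄.B k := fun k =>
    Algebra.TensorProduct.cancelBaseChange R R' L₀ L₀ (𝔄.B k)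
  have key : ∀ k v, e k ((1 : L₀) ⊗ₜ[R'] v) = Algebra.TensorProduct.map R'.val (AlgHom.id R (𝔄.B k)) v :=
    fun k v => cancel_one_tmul R' (𝔄.B k) v
  let I : ∀ k, J k → Ideal (R' ⊗[R] 𝔄.B k) := fun k j =>
    Ideal.span (Set.range fun z : G ⟨k, j⟩ => w ⟨k, j⟩ z.1 z.2)
  have hIeq : ∀ i : Σ k, J k, fibI R' L₀ (I i.1 i.2) = Ideal.comap (e i.1) i.2.1 := by
    intro i
    refine le_antisymm ?_ ?_
    · rw [fibI, Ideal.map_span, Ideal.span_le]
      rintro _ ⟨_, ⟨z, rfl⟩, rfl⟩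
      rw [SetLike.mem_coe, Ideal.mem_comap, Algebra.TensorProduct.includeRight_apply, key, hw, ← hG i]
      exact Submodule.subset_span z.2
    · intro x hx
      have : e i.1 x ∈ Ideal.map (e i.1) (fibI R' L₀ (I i.1 i.2)) := by
        have hx' : e i.1 x ∈ i.2.1 := hx
        rw [← hG i] at hx'
        refine (Ideal.span_le.2 ?_ : Ideal.span (G i : Set _) ≤ _) hx'
        intro z hz
        rw [SetLike.mem_coe, ← hw i z hz, ← key]
        exact Ideal.mem_map_of_mem _ (Ideal.mem_map_of_mem _ (Ideal.subset_span ⟨⟨z, hz⟩, rfl⟩))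
      obtain ⟨x', hx', he⟩ := (Ideal.mem_map_iff_of_surjective _ (e i.1).surjective).1 this
      rwa [(e i.1).injective he] at hx'
  have hp : ∀ i : Σ k, J k, (fibI R' L₀ (I i.1 i.2)).IsPrime := fun i => by
    rw [hIeq]
    haveI : (i.2.1 : Ideal (L₀ ⊗[R] 𝔄.B i.1)).IsPrime := i.2.2.1.1
    exact Ideal.comap_isPrime _ _
  have hc : ∀ k, ∀ q : Ideal (L₀ ⊗[R'] (R' ⊗[R] 𝔄.B k)), q.IsPrime → ∃ j, fibI R' L₀ (I k j) ≤ q := by
    intro k q hq
    haveI := hq
    obtain ⟨P, hP, hPle⟩ := Ideal.exists_minimalPrimes_le (I := (⊥ : Ideal (L₀ ⊗[R] 𝔄.B k)))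
      (J := Ideal.comap (e k).symm q) bot_le
    refine ⟨⟨P, hP⟩, ?_⟩
    rw [hIeq ⟨k, ⟨P, hP⟩⟩]
    intro x hx
    have := hPle hx
    rw [Ideal.mem_comap, AlgEquiv.symm_apply_apply] at this
    exact this
  haveI : LocallyOfFiniteType (pullback.snd g (sp R R')) := MorphismProperty.pullback_snd _ _ ‹_›
  have hiso : ∀ (L : Type u) [Field L] [Algebra R L] [Algebra R' L] [IsScalarTower R R' L],
      (irreducibleComponents ↥(pullback (pullback.snd g (sp R R')) (sp R' L))).encard =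
        (irreducibleComponents ↥(pullback g (sp R L))).encard := fun L _ _ _ _ =>
    encard_irreducibleComponents_iso (pullbackLeftPullbackSndIso g (sp R R') (sp R' L) ≪≫
      pullback.congrHom rfl (by rw [← Spec.map_comp, ← CommRingCat.ofHom_comp, ← IsScalarTower.algebraMap_eq]))
  have hinc : ∀ k, ∀ j j' : J k, fibI R' L₀ (I k j) ≤ fibI R' L₀ (I k j') → j = j' := by
    intro k j j' hle
    rw [hIeq ⟨k, j⟩, hIeq ⟨k, j'⟩] at hle
    have hle' : (j.1 : Ideal (L₀ ⊗[R] 𝔄.B k)) ≤ j'.1 := fun x hx => by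
      obtain ⟨y, rfl⟩ := (e k).surjective x
      exact hle hx
    exact Subtype.ext (le_antisymm hle' (j'.2.2 j.2.1 hle'))
  refine (𝔄'.encard_near I L₀ (fun i => Submodule.fg_span (Set.finite_range _)) hp hc hinc).mono fun L _ _ _ hL => ?_
  intro _ _
  rw [← hiso L, hL, hiso L₀]

end Groth.Agent.H1Spread
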