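import Groth.Agent.H1Spread.Conn
import Mathlib

/-!
# Section components and base change along immersions; strata
-/

universe u

set_option backward.isDefEq.respectTransparency false
set_option backward.isDefEq.respectTransparency.types false

open AlgebraicGeometry CategoryTheory CategoryTheory.Limits TopologicalSpace

noncomputable section

namespace Groth.Agent.H1Spread

theorem mem_connectedComponentIn_preimage {A B : Type*} [TopologicalSpace A] [TopologicalSpace B] {e : A → B}
    (he : Topology.IsEmbedding e) {S : Set B} (hS : S ⊆ Set.range e) (a b : A) (ha : e a ∈ S) :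
    b ∈ connectedComponentIn (e ⁻¹' S) a ↔ e b ∈ connectedComponentIn S (e a) := by
  constructor
  · intro hb
    refine (isPreconnected_connectedComponentIn.image e he.continuous.continuousOn).subset_connectedComponentIn
      ⟨a, mem_connectedComponentIn (show a ∈ e ⁻¹' S from ha), rfl⟩ ?_ ⟨b, hb, rfl⟩
    rintro _ ⟨c, hc, rfl⟩
    exact connectedComponentIn_subset (e ⁻¹' S) a hc
  · intro hb
    have hsub : connectedComponentIn S (e a) ⊆ Set.range e := (connectedComponentIn_subset _ _).trans hS
    have hpre : _root_.IsPreconnected (e ⁻¹' connectedComponentIn S (e a)) := by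
      rw [← he.isInducing.isPreconnected_image, Set.image_preimage_eq_of_subset hsub]
      exact isPreconnected_connectedComponentIn
    exact hpre.subset_connectedComponentIn (show a ∈ e ⁻¹' connectedComponentIn S (e a) from mem_connectedComponentIn ha)
      (Set.preimage_mono (connectedComponentIn_subset _ _)) hb

variable {X Y Y' : Scheme.{u}}

/-- The section components pull back along immersions of the base. -/
theorem mem_sectionComponents_baseChange (f : X ⟶ Y) (s : Y ⟶ X) (hs : s ≫ f = 𝟙 Y) (i : Y' ⟶ Y) [IsImmersion i]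
    (s' : Y' ⟶ pullback f i) (h₁ : s' ≫ pullback.fst f i = i ≫ s) (h₂ : s' ≫ pullback.snd f i = 𝟙 Y')
    (x : ↥(pullback f i)) :
    x ∈ MoreMor.sectionComponents (pullback.snd f i) s' ↔
      pullback.fst f i x ∈ MoreMor.sectionComponents f s := by
  set y' := pullback.snd f i x
  have hx : f (pullback.fst f i x) = i y' := by
    rw [← Scheme.Hom.comp_apply, pullback.condition, Scheme.Hom.comp_apply]
  have hsy : pullback.fst f i (s' y') = s (i y') := by
    rw [← Scheme.Hom.comp_apply, h₁, Scheme.Hom.comp_apply]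
  have he : Topology.IsEmbedding (pullback.fst f i) := (pullback.fst f i).isEmbedding
  have hpre : pullback.snd f i ⁻¹' {y'} = pullback.fst f i ⁻¹' (f ⁻¹' {i y'}) := by
    ext z
    simp only [Set.mem_preimage, Set.mem_singleton_iff]
    rw [← Scheme.Hom.comp_apply (pullback.fst f i) f, pullback.condition, Scheme.Hom.comp_apply]
    exact ⟨fun h => by rw [h], fun h => i.isEmbedding.injective h⟩
  show x ∈ connectedComponentIn (pullback.snd f i ⁻¹' {y'}) (s' y') ↔
    pullback.fst f i x ∈ connectedComponentIn (f ⁻¹' {f (pullback.fst f i x)}) (s (f (pullback.fst f i x)))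
  rw [hx, ← hsy, hpre]
  refine mem_connectedComponentIn_preimage he ?_ _ _ ?_
  · intro z hz
    rw [Scheme.Pullback.range_fst]
    exact ⟨y', hz.symm⟩
  · show f (pullback.fst f i (s' y')) = i y'
    rw [hsy, ← Scheme.Hom.comp_apply, hs]
    rfl

/-- A reduced irreducible closed subscheme carried by the closure of a point. -/
theorem exists_closurePoint (y : Y) : ∃ (Z : Scheme.{u}) (_ : IrreducibleSpace ↑Z) (_ : IsReduced Z) (i : Z ⟶ Y)
    (_ : IsClosedImmersion i), i (genericPoint ↑Z) = y ∧ Set.range i = closure {y} := by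
  let I := Scheme.IdealSheafData.vanishingIdeal (⟨closure {y}, isClosed_closure⟩ : Closeds ↑Y)
  have hr : Set.range I.subschemeι = closure {y} := by
    rw [Scheme.IdealSheafData.range_subschemeι, Scheme.IdealSheafData.coe_support_vanishingIdeal]
    rfl
  obtain ⟨z₀, hz₀⟩ := hr.ge (subset_closure (Set.mem_singleton y))
  have hgen : IsGenericPoint z₀ Set.univ := by
    refine Set.eq_univ_of_forall fun z => ?_
    rw [I.subschemeι.isEmbedding.closure_eq_preimage_closure_image, Set.image_singleton, hz₀]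
    exact hr.le ⟨z, rfl⟩
  haveI : IrreducibleSpace ↑I.subscheme := by
    have h := (isIrreducible_singleton (x := z₀)).closure
    rw [hgen.def] at h
    exact { toPreirreducibleSpace := ⟨h.2⟩, toNonempty := ⟨z₀⟩ }
  refine ⟨I.subscheme, inferInstance, inferInstance, I.subschemeι, inferInstance, ?_, hr⟩
  rw [(genericPoint_spec ↑I.subscheme).eq hgen, hz₀]

theorem exists_stratum_const (f : X ⟶ Y) [LocallyOfFiniteType f] [QuasiCompact f] (y : Y) :
    ∃ V : Set ↑Y, V ⊆ closure {y} ∧ y ∈ V ∧ IsOpen (Subtype.val ⁻¹' V : Set ↑(closure ({y} : Set ↑Y))) ∧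
      ∀ y' ∈ V, MoreMor.nGeomConnComp f y' = MoreMor.nGeomConnComp f y := by
  obtain ⟨Z, _, _, i, _, hy, hr⟩ := exists_closurePoint y
  haveI : LocallyOfFiniteType (pullback.snd f i) := inferInstance
  haveI : QuasiCompact (pullback.snd f i) := inferInstance
  obtain ⟨W, hη, hW⟩ := exists_open_const (pullback.snd f i)
  have hbc : ∀ z, MoreMor.nGeomConnComp (pullback.snd f i) z = MoreMor.nGeomConnComp f (i z) :=
    fun z => (Triage.GeomCount.nGeom_baseChange f _ (pullback.fst f i) i (IsPullback.of_hasPullback f i) z).2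
  refine ⟨i '' (W : Set Z), (Set.image_subset_range _ _).trans hr.le, ⟨_, hη, hy⟩, ?_, ?_⟩
  · obtain ⟨O, hO, hOW⟩ := i.isEmbedding.isInducing.isOpen_iff.1 W.isOpen
    have : (Subtype.val ⁻¹' (i '' (W : Set Z)) : Set ↑(closure ({y} : Set ↑Y))) = Subtype.val ⁻¹' O := by
      ext ⟨w, hw⟩
      obtain ⟨z, rfl⟩ := hr.ge hw
      rw [← hOW]
      exact ⟨fun ⟨z', hz', he⟩ => i.isEmbedding.injective (he : i z' = i z) ▸ hz', fun h => ⟨z, h, rfl⟩⟩
    rw [this]
    exact hO.preimage continuous_subtype_val
  · rintro _ ⟨z, hz, rfl⟩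
    rw [← hbc, hW z hz, hbc, hy]

theorem exists_stratum_clopen (f : X ⟶ Y) (s : Y ⟶ X) (hs : s ≫ f = 𝟙 Y) [LocallyOfFiniteType f] [QuasiCompact f]
    (y : Y) :
    ∃ V : Set ↑Y, V ⊆ closure {y} ∧ y ∈ V ∧ IsOpen (Subtype.val ⁻¹' V : Set ↑(closure ({y} : Set ↑Y))) ∧
      IsClopen (Subtype.val ⁻¹' MoreMor.sectionComponents f s : Set ↑(f ⁻¹' V)) := by
  obtain ⟨Z, _, _, i, _, hy, hr⟩ := exists_closurePoint y
  haveI : LocallyOfFiniteType (pullback.snd f i) := inferInstance
  haveI : QuasiCompact (pullback.snd f i) := inferInstance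
  let s' : Z ⟶ pullback f i := pullback.lift (i ≫ s) (𝟙 Z) (by rw [Category.assoc, hs, Category.id_comp, Category.comp_id])
  obtain ⟨W, hη, hW⟩ := exists_open_clopen (pullback.snd f i) s' (pullback.lift_snd _ _ _)
  have hpre : ∀ w : ↥(pullback f i), f (pullback.fst f i w) = i (pullback.snd f i w) := fun w => by
    rw [← Scheme.Hom.comp_apply, pullback.condition, Scheme.Hom.comp_apply]
  refine ⟨i '' (W : Set Z), (Set.image_subset_range _ _).trans hr.le, ⟨_, hη, hy⟩, ?_, ?_⟩
  · obtain ⟨O, hO, hOW⟩ := i.isEmbedding.isInducing.isOpen_iff.1 W.isOpen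
    have : (Subtype.val ⁻¹' (i '' (W : Set Z)) : Set ↑(closure ({y} : Set ↑Y))) = Subtype.val ⁻¹' O := by
      ext ⟨w, hw⟩
      obtain ⟨z, rfl⟩ := hr.ge hw
      rw [← hOW]
      exact ⟨fun ⟨z', hz', he⟩ => i.isEmbedding.injective (he : i z' = i z) ▸ hz', fun h => ⟨z, h, rfl⟩⟩
    rw [this]
    exact hO.preimage continuous_subtype_val
  · let φ : ↑(pullback.snd f i ⁻¹' (W : Set Z)) → ↑(f ⁻¹' (i '' (W : Set Z))) := fun w =>
      ⟨pullback.fst f i w.1, ⟨pullback.snd f i w.1, w.2, (hpre w.1).symm⟩⟩
    have hφi : Topology.IsInducing φ :=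
      ((pullback.fst f i).isEmbedding.isInducing.comp Topology.IsInducing.subtypeVal).codRestrict fun w => (φ w).2
    have hφs : Function.Surjective φ := by
      rintro ⟨x, z, hz, hzx⟩
      obtain ⟨w, hw⟩ : x ∈ Set.range (pullback.fst f i) := by
        rw [Scheme.Pullback.range_fst]; exact ⟨z, hzx⟩
      refine ⟨⟨w, ?_⟩, Subtype.ext hw⟩
      have : i (pullback.snd f i w) = i z := by rw [← hpre, hw, hzx]
      show pullback.snd f i w ∈ W
      rw [i.isEmbedding.injective this]; exact hz
    let H : ↑(pullback.snd f i ⁻¹' (W : Set Z)) ≃ₜ ↑(f ⁻¹' (i '' (W : Set Z))) :=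
      (Equiv.ofBijective φ ⟨fun a b h => Subtype.ext ((pullback.fst f i).isEmbedding.injective (congrArg Subtype.val h)), hφs⟩).toHomeomorphOfIsInducing hφi
    have heq : (Subtype.val ⁻¹' MoreMor.sectionComponents f s : Set ↑(f ⁻¹' (i '' (W : Set Z)))) =
        H.symm ⁻¹' (Subtype.val ⁻¹' MoreMor.sectionComponents (pullback.snd f i) s') := by
      ext x
      obtain ⟨w, rfl⟩ := H.surjective x
      rw [Set.mem_preimage, Set.mem_preimage, H.symm_apply_apply]
      exact (mem_sectionComponents_baseChange f s hs i s' (pullback.lift_fst _ _ _) (pullback.lift_snd _ _ _) w.1).symm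
    rw [heq]
    exact hW.preimage H.symm.continuous

end Groth.Agent.H1Spread
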