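import Groth.Agent.H1Spread.Atlas
import Groth.Agent.H1Spread.Count
import Groth.Agent.H1Spread.Ideal
import Groth.Agent.Triage.GeomCount
import Mathlib

/-!
# The number of connected components of a geometric fibre near the generic point
-/

universe u

set_option backward.isDefEq.respectTransparency false
set_option backward.isDefEq.respectTransparency.types false
set_option maxHeartbeats 1000000

open AlgebraicGeometry CategoryTheory CategoryTheory.Limits TopologicalSpace TensorProduct IsLocalRing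

noncomputable section

namespace Groth.Agent.H1Spread

theorem exists_algHom_spec {R : Type u} [CommRing R] {A C : Type u} [CommRing A] [Algebra R A] [CommRing C]
    [Algebra R C] (m : Spec (CommRingCat.of C) ⟶ Spec (CommRingCat.of A)) (h : m ≫ sp R A = sp R C) :
    ∃ φ : A →ₐ[R] C, Spec.map (CommRingCat.ofHom φ.toRingHom) = m := by
  refine ⟨⟨(Spec.preimage m).hom, fun r => ?_⟩, Spec.map_preimage m⟩
  rw [← Spec.map_preimage m, ← Spec.map_comp] at h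
  exact congrArg (fun k : CommRingCat.of R ⟶ CommRingCat.of C => k r) (Spec.map_injective h)

theorem spec_algHom_sp {R : Type u} [CommRing R] {A C : Type u} [CommRing A] [Algebra R A] [CommRing C]
    [Algebra R C] (φ : A →ₐ[R] C) : Spec.map (CommRingCat.ofHom φ.toRingHom) ≫ sp R A = sp R C := by
  rw [← Spec.map_comp]
  exact congrArg Spec.map (CommRingCat.hom_ext (RingHom.ext φ.commutes))

variable {R : Type u} [CommRing R] {X : Scheme.{u}} {g : X ⟶ Spec (CommRingCat.of R)} (𝔄 : Atlas g)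

namespace Atlas

section Pieces

variable {J : 𝔄.κ → Type u} (I : ∀ k, J k → Ideal (𝔄.B k))

/-- An irreducible piece of a geometric fibre. -/
def Z (L : Type u) [CommRing L] [Algebra R L] (i : Σ k, J k) : Set ↥(pullback g (sp R L)) :=
  𝔄.piece L i.1 '' PrimeSpectrum.zeroLocus (fibI R L (I i.1 i.2) : Set (L ⊗[R] 𝔄.B i.1))

/-- Two pieces meet. -/
def Meet (L : Type u) [CommRing L] [Algebra R L] (i i' : Σ k, J k) : Prop := (𝔄.Z I L i ∩ 𝔄.Z I L i').Nonempty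

theorem closure_Z_inter (L : Type u) [CommRing L] [Algebra R L] (i : Σ k, J k) :
    closure (𝔄.Z I L i) ∩ Set.range (𝔄.piece L i.1) ⊆ 𝔄.Z I L i := by
  rintro _ ⟨hx, p, rfl⟩
  refine ⟨p, ?_, rfl⟩
  have hp : p ∈ (𝔄.piece L i.1) ⁻¹' closure (𝔄.Z I L i) := hx
  rw [Z, ← (𝔄.piece L i.1).isOpenEmbedding.isInducing.closure_eq_preimage_closure_image] at hp
  exact (PrimeSpectrum.isClosed_zeroLocus _).closure_subset hp

theorem card_eq_quot [∀ k, Finite (J k)] (L : Type u) [Field L] [Algebra R L]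
    (hp : ∀ i : Σ k, J k, (fibI R L (I i.1 i.2)).IsPrime)
    (hc : ∀ k, ∀ q : Ideal (L ⊗[R] 𝔄.B k), q.IsPrime → ∃ j, fibI R L (I k j) ≤ q)
    (r : (Σ k, J k) → (Σ k, J k) → Prop) (h₁ : ∀ i i', r i i' → 𝔄.Meet I L i i')
    (h₂ : ∀ i i', 𝔄.Meet I L i i' → Relation.EqvGen r i i') :
    ENat.card (_root_.ConnectedComponents ↥(pullback g (sp R L))) = ENat.card (Quot r) := by
  refine card_connectedComponents_eq_quot (fun k => Set.range (𝔄.piece L k))
    (fun k => (𝔄.piece L k).isOpenEmbedding.isOpen_range) (𝔄.exists_mem_range_piece L) Sigma.fst (𝔄.Z I L)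
    (fun i => ?_) (fun i => ⟨_, ⟨_, hp i⟩, fun _ hz => hz, rfl⟩) (𝔄.closure_Z_inter I L) ?_ r h₁ h₂
  · refine IsPreconnected.image ?_ _ (𝔄.piece L i.1).continuous.continuousOn
    exact ((PrimeSpectrum.isIrreducible_zeroLocus_iff_of_radical _ (hp i).isRadical).2 (hp i)).isPreirreducible.isPreconnected
  · rintro k _ ⟨p, rfl⟩
    obtain ⟨j, hj⟩ := hc k p.asIdeal p.2
    exact ⟨⟨k, j⟩, rfl, p, hj, rfl⟩

/-- The evaluation at a point with values in a field. -/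
def ev (L : Type u) [Field L] [Algebra R L] {k : 𝔄.κ} (φ : 𝔄.B k →ₐ[R] L) : L ⊗[R] 𝔄.B k →ₐ[L] L :=
  Algebra.TensorProduct.lift (AlgHom.id L L) φ fun _ _ => Commute.all _ _

theorem ev_tmul (L : Type u) [Field L] [Algebra R L] {k : 𝔄.κ} (φ : 𝔄.B k →ₐ[R] L) (l : L) (b : 𝔄.B k) :
    𝔄.ev L φ (l ⊗ₜ b) = l * φ b :=
  Algebra.TensorProduct.lift_tmul _ _ _ _ _

/-- The point of a piece given by a point with values in a field. -/
def point (L : Type u) [Field L] [Algebra R L] {k : 𝔄.κ} (φ : 𝔄.B k →ₐ[R] L) :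
    Spec (CommRingCat.of L) ⟶ Spec (CommRingCat.of (L ⊗[R] 𝔄.B k)) :=
  Spec.map (CommRingCat.ofHom (𝔄.ev L φ).toRingHom)

theorem point_fst (L : Type u) [Field L] [Algebra R L] {k : 𝔄.κ} (φ : 𝔄.B k →ₐ[R] L) :
    𝔄.point L φ ≫ 𝔄.piece L k ≫ pullback.fst g (sp R L) = Spec.map (CommRingCat.ofHom φ.toRingHom) ≫ 𝔄.u k := by
  rw [piece_fst, point, ← Spec.map_comp_assoc]
  refine congrArg (fun m => Spec.map m ≫ 𝔄.u k) (CommRingCat.hom_ext (RingHom.ext fun b => ?_))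
  show 𝔄.ev L φ ((1 : L) ⊗ₜ[R] b) = φ b
  rw [ev_tmul, one_mul]

theorem point_snd (L : Type u) [Field L] [Algebra R L] {k : 𝔄.κ} (φ : 𝔄.B k →ₐ[R] L) :
    𝔄.point L φ ≫ 𝔄.piece L k ≫ pullback.snd g (sp R L) = 𝟙 _ := by
  rw [piece_snd, point, ← Spec.map_comp, ← Spec.map_id]
  refine congrArg Spec.map (CommRingCat.hom_ext (RingHom.ext fun l => ?_))
  show 𝔄.ev L φ (l ⊗ₜ[R] 1) = l
  rw [ev_tmul, map_one, mul_one]

theorem point_mem (L : Type u) [Field L] [Algebra R L] {k : 𝔄.κ} (φ : 𝔄.B k →ₐ[R] L) {j : J k}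
    (h : ∀ b ∈ I k j, φ b = 0) : (𝔄.point L φ ≫ 𝔄.piece L k) (closedPoint L) ∈ 𝔄.Z I L ⟨k, j⟩ := by
  refine ⟨𝔄.point L φ (closedPoint L), ?_, (Scheme.Hom.comp_apply _ _ _).symm⟩
  show fibI R L (I k j) ≤ Ideal.comap _ (maximalIdeal L)
  refine Ideal.map_le_iff_le_comap.2 fun b hb => ?_
  rw [Ideal.mem_comap, Ideal.mem_comap, maximalIdeal_eq_bot, Ideal.mem_bot]
  show 𝔄.ev L φ ((1 : L) ⊗ₜ[R] b) = 0
  rw [ev_tmul, h b hb, mul_zero]

theorem meet_near [IsDomain R] (L₀ : Type u) [Field L₀] [IsAlgClosed L₀] [Algebra R L₀] [FaithfulSMul R L₀]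
    [Algebra.IsAlgebraic R L₀] (i i' : Σ k, J k) (h : 𝔄.Meet I L₀ i i') :
    Near R (fun L => 𝔄.Meet I L i i') := by
  classical
  obtain ⟨k, a⟩ := i
  obtain ⟨k', b⟩ := i'
  obtain ⟨_, ⟨p₀, hp₀, rfl⟩, hx₀⟩ := h
  haveI : IsJacobsonRing (L₀ ⊗[R] 𝔄.B k) := isJacobsonRing_of_finiteType (A := L₀)
  have hlc : IsLocallyClosed (PrimeSpectrum.zeroLocus (fibI R L₀ (I k a) : Set (L₀ ⊗[R] 𝔄.B k)) ∩
      (𝔄.piece L₀ k) ⁻¹' 𝔄.Z I L₀ ⟨k', b⟩) := by
    refine ⟨(𝔄.piece L₀ k) ⁻¹' Set.range (𝔄.piece L₀ k'),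
      PrimeSpectrum.zeroLocus (fibI R L₀ (I k a) : Set (L₀ ⊗[R] 𝔄.B k)) ∩ (𝔄.piece L₀ k) ⁻¹' closure (𝔄.Z I L₀ ⟨k', b⟩),
      (𝔄.piece L₀ k').isOpenEmbedding.isOpen_range.preimage (𝔄.piece L₀ k).continuous,
      (PrimeSpectrum.isClosed_zeroLocus _).inter (isClosed_closure.preimage (𝔄.piece L₀ k).continuous), ?_⟩
    ext q
    constructor
    · rintro ⟨hq, hq'⟩
      exact ⟨by obtain ⟨q', _, hq'⟩ := hq'; exact ⟨q', hq'⟩, hq, subset_closure hq'⟩
    · rintro ⟨hq, hq', hq''⟩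
      exact ⟨hq', 𝔄.closure_Z_inter I L₀ ⟨k', b⟩ ⟨hq'', hq⟩⟩
  haveI : JacobsonSpace ↥(Spec (CommRingCat.of (L₀ ⊗[R] 𝔄.B k))) :=
    inferInstanceAs (JacobsonSpace (PrimeSpectrum (L₀ ⊗[R] 𝔄.B k)))
  obtain ⟨p, ⟨hpa, hpb⟩, hpcl⟩ := nonempty_inter_closedPoints
    (show (PrimeSpectrum.zeroLocus (fibI R L₀ (I k a) : Set (L₀ ⊗[R] 𝔄.B k)) ∩
      (𝔄.piece L₀ k) ⁻¹' 𝔄.Z I L₀ ⟨k', b⟩).Nonempty from ⟨p₀, hp₀, hx₀⟩) hlc
  haveI hmax : p.asIdeal.IsMaximal := (PrimeSpectrum.isClosed_singleton_iff_isMaximal p).1 hpcl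
  letI := Ideal.Quotient.field p.asIdeal
  haveI : Module.Finite L₀ ((L₀ ⊗[R] 𝔄.B k) ⧸ p.asIdeal) := finite_of_finite_type_of_isJacobsonRing L₀ _
  let ε := AlgEquiv.ofBijective (Algebra.ofId L₀ ((L₀ ⊗[R] 𝔄.B k) ⧸ p.asIdeal))
    (IsAlgClosed.algebraMap_bijective_of_isIntegral (k := L₀) (K := (L₀ ⊗[R] 𝔄.B k) ⧸ p.asIdeal))
  let π : L₀ ⊗[R] 𝔄.B k →ₐ[L₀] L₀ := ε.symm.toAlgHom.comp (Ideal.Quotient.mkₐ L₀ p.asIdeal)
  let α : 𝔄.B k →ₐ[R] L₀ := (π.restrictScalars R).comp Algebra.TensorProduct.includeRight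
  have hπ : Spec.map (CommRingCat.ofHom π.toRingHom) (closedPoint L₀) = p := by
    refine PrimeSpectrum.ext ?_
    show Ideal.comap π.toRingHom (maximalIdeal L₀) = p.asIdeal
    ext z
    rw [Ideal.mem_comap, maximalIdeal_eq_bot, Ideal.mem_bot]
    show ε.symm (Ideal.Quotient.mk _ z) = 0 ↔ _
    rw [map_eq_zero_iff _ ε.symm.injective, Ideal.Quotient.eq_zero_iff_mem]
  have hπpt : 𝔄.point L₀ α = Spec.map (CommRingCat.ofHom π.toRingHom) := by
    refine congrArg (fun φ : L₀ ⊗[R] 𝔄.B k →ₐ[L₀] L₀ => Spec.map (CommRingCat.ofHom φ.toRingHom)) ?_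
    refine Algebra.TensorProduct.ext (Subsingleton.elim _ _) (AlgHom.ext fun z => ?_)
    exact (𝔄.ev_tmul L₀ α 1 z).trans (one_mul _)
  -- an affine open around the common point
  let P₀ := Spec.map (CommRingCat.ofHom α.toRingHom) ≫ 𝔄.u k
  have hP₀ : P₀ (closedPoint L₀) = pullback.fst g (sp R L₀) (𝔄.piece L₀ k p) := by
    show (Spec.map (CommRingCat.ofHom α.toRingHom) ≫ 𝔄.u k) (closedPoint L₀) = _
    rw [← 𝔄.point_fst L₀ α, hπpt, Scheme.Hom.comp_apply, Scheme.Hom.comp_apply, hπ]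
  have hmem : P₀ (closedPoint L₀) ∈ Set.range (𝔄.u k) ∩ Set.range (𝔄.u k') := by
    refine ⟨⟨_, (Scheme.Hom.comp_apply _ _ _).symm⟩, ?_⟩
    obtain ⟨q, -, hq⟩ := hpb
    rw [hP₀, ← hq, 𝔄.fst_piece_apply L₀ k' q]
    exact ⟨_, rfl⟩
  obtain ⟨W, hW, hxW, hWU⟩ := exists_isAffineOpen_mem_and_subset
    (U := (𝔄.u k).opensRange ⊓ (𝔄.u k').opensRange) hmem
  haveI := hW.isOpenImmersion_fromSpec
  let ψ : CommRingCat.of R ⟶ Γ(X, W) := Spec.preimage (hW.fromSpec ≫ g)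
  letI : Algebra R Γ(X, W) := ψ.hom.toAlgebra
  have hWg : hW.fromSpec ≫ g = sp R Γ(X, W) := (Spec.map_preimage _).symm
  haveI : Algebra.FiniteType R Γ(X, W) := by
    have hsub : ∀ y, y ∈ Set.range hW.fromSpec → y ∈ Set.range (𝔄.u k) := fun y hy =>
      (hWU (hW.range_fromSpec.le hy)).1
    haveI : LocallyOfFiniteType (sp R (𝔄.B k)) :=
      (HasRingHomProperty.Spec_iff (P := @LocallyOfFiniteType)).2 (RingHom.finiteType_algebraMap.2 inferInstance)
    haveI : LocallyOfFiniteType (sp R Γ(X, W)) := by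
      rw [← hWg, ← IsOpenImmersion.lift_fac (𝔄.u k) hW.fromSpec hsub, Category.assoc, 𝔄.hu]
      haveI : IsOpenImmersion (IsOpenImmersion.lift (𝔄.u k) hW.fromSpec hsub) := by
        haveI : IsOpenImmersion (IsOpenImmersion.lift (𝔄.u k) hW.fromSpec hsub ≫ 𝔄.u k) := by
          rw [IsOpenImmersion.lift_fac]; infer_instance
        exact IsOpenImmersion.of_comp _ (𝔄.u k)
      infer_instance
    exact RingHom.finiteType_algebraMap.1 ((HasRingHomProperty.Spec_iff (P := @LocallyOfFiniteType)).1 inferInstance)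
  have hsubW : Set.range P₀ ⊆ Set.range hW.fromSpec := by
    rintro _ ⟨q, rfl⟩
    rw [Subsingleton.elim q (closedPoint L₀), hW.range_fromSpec]
    exact hxW
  obtain ⟨γ, hγ⟩ := exists_algHom_spec (R := R) (A := Γ(X, W)) (IsOpenImmersion.lift hW.fromSpec P₀ hsubW) (by
    rw [← hWg, IsOpenImmersion.lift_fac_assoc]
    show (Spec.map (CommRingCat.ofHom α.toRingHom) ≫ 𝔄.u k) ≫ g = _
    rw [Category.assoc, 𝔄.hu, spec_algHom_sp])
  have hres : ∀ l, (∀ y ∈ W, y ∈ Set.range (𝔄.u l)) →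
      ∃ res : 𝔄.B l →ₐ[R] Γ(X, W), Spec.map (CommRingCat.ofHom res.toRingHom) ≫ 𝔄.u l = hW.fromSpec := by
    intro l hl
    obtain ⟨res, hres⟩ := exists_algHom_spec (R := R) (A := 𝔄.B l)
      (IsOpenImmersion.lift (𝔄.u l) hW.fromSpec fun y hy => hl y (hW.range_fromSpec.le hy))
      (by rw [← 𝔄.hu l, IsOpenImmersion.lift_fac_assoc, hWg])
    exact ⟨res, by rw [hres, IsOpenImmersion.lift_fac]⟩
  obtain ⟨res, hres₁⟩ := hres k fun y hy => (hWU hy).1
  obtain ⟨res', hres₂⟩ := hres k' fun y hy => (hWU hy).2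
  have hγP : Spec.map (CommRingCat.ofHom γ.toRingHom) ≫ hW.fromSpec = P₀ := by
    rw [hγ, IsOpenImmersion.lift_fac]
  have hka : ∀ z ∈ I k a, γ (res z) = 0 := by
    have hα : γ.comp res = α := by
      refine AlgHom.coe_ringHom_injective ?_
      have := congrArg CommRingCat.Hom.hom (Spec.map_injective ((cancel_mono (𝔄.u k)).1
        (show Spec.map (CommRingCat.ofHom (γ.comp res).toRingHom) ≫ 𝔄.u k = P₀ from by
          rw [show CommRingCat.ofHom (γ.comp res).toRingHom = CommRingCat.ofHom res.toRingHom ≫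
            CommRingCat.ofHom γ.toRingHom from rfl, Spec.map_comp, Category.assoc, hres₁, hγP])))
      exact this
    intro z hz
    rw [← AlgHom.comp_apply, hα]
    show π ((1 : L₀) ⊗ₜ[R] z) = 0
    show ε.symm (Ideal.Quotient.mk _ _) = 0
    rw [map_eq_zero_iff _ ε.symm.injective, Ideal.Quotient.eq_zero_iff_mem]
    exact hpa (Ideal.mem_map_of_mem _ hz)
  have hkb : ∀ z ∈ I k' b, γ (res' z) = 0 := by
    have heq : 𝔄.point L₀ (γ.comp res') ≫ 𝔄.piece L₀ k' = 𝔄.point L₀ α ≫ 𝔄.piece L₀ k := by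
      refine pullback.hom_ext ?_ ?_
      · rw [Category.assoc, 𝔄.point_fst, Category.assoc, 𝔄.point_fst,
          show CommRingCat.ofHom (γ.comp res').toRingHom = CommRingCat.ofHom res'.toRingHom ≫
            CommRingCat.ofHom γ.toRingHom from rfl, Spec.map_comp, Category.assoc, hres₂, hγP]
      · rw [Category.assoc, 𝔄.point_snd, Category.assoc, 𝔄.point_snd]
    have hpt : 𝔄.piece L₀ k' (𝔄.point L₀ (γ.comp res') (closedPoint L₀)) = 𝔄.piece L₀ k p := by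
      rw [← Scheme.Hom.comp_apply, heq, Scheme.Hom.comp_apply, hπpt, hπ]
    obtain ⟨q, hq, hq'⟩ := hpb
    rw [← hq'] at hpt
    have hq'' := (𝔄.piece L₀ k').isOpenEmbedding.injective hpt
    intro z hz
    have h1 : (1 : L₀) ⊗ₜ[R] z ∈ q.asIdeal := hq (Ideal.mem_map_of_mem _ hz)
    rw [← hq''] at h1
    have h2 : 𝔄.ev L₀ (γ.comp res') ((1 : L₀) ⊗ₜ[R] z) ∈ maximalIdeal L₀ := h1
    rw [ev_tmul, one_mul, maximalIdeal_eq_bot, Ideal.mem_bot] at h2
    exact h2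
  -- descend the point
  obtain ⟨G, hG⟩ := ‹Algebra.FiniteType R Γ(X, W)›.out
  refine near_of_adjoin (G.image γ) ⟨1, one_ne_zero, fun L _ _ _ _ _ _ => ?_⟩
  have hrange : ∀ z, γ z ∈ Algebra.adjoin R ((G.image γ : Finset L₀) : Set L₀) := by
    intro z
    rw [Finset.coe_image, ← AlgHom.map_adjoin, hG]
    exact ⟨z, trivial, rfl⟩
  let γL : Γ(X, W) →ₐ[R] L := (IsScalarTower.toAlgHom R _ L).comp (γ.codRestrict _ hrange)
  have hL : ∀ z, γ z = 0 → γL z = 0 := fun z hz => by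
    have h0 : γ.codRestrict _ hrange z = 0 := Subtype.ext hz
    show (IsScalarTower.toAlgHom R _ L) (γ.codRestrict _ hrange z) = 0
    exact (congrArg (IsScalarTower.toAlgHom R _ L) h0).trans (map_zero _)
  refine ⟨_, 𝔄.point_mem I L (γL.comp res) fun z hz => hL _ (hka z hz), ?_⟩
  have heq : 𝔄.point L (γL.comp res) ≫ 𝔄.piece L k = 𝔄.point L (γL.comp res') ≫ 𝔄.piece L k' := by
    refine pullback.hom_ext ?_ ?_
    · rw [Category.assoc, 𝔄.point_fst, Category.assoc, 𝔄.point_fst,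
        show CommRingCat.ofHom (γL.comp res).toRingHom = CommRingCat.ofHom res.toRingHom ≫
          CommRingCat.ofHom γL.toRingHom from rfl,
        show CommRingCat.ofHom (γL.comp res').toRingHom = CommRingCat.ofHom res'.toRingHom ≫
          CommRingCat.ofHom γL.toRingHom from rfl, Spec.map_comp, Spec.map_comp, Category.assoc, Category.assoc,
        hres₁, hres₂]
    · rw [Category.assoc, 𝔄.point_snd, Category.assoc, 𝔄.point_snd]
  rw [heq]
  exact 𝔄.point_mem I L (γL.comp res') fun z hz => hL _ (hkb z hz)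

theorem meet_of_meet_near [IsDomain R] (L₀ : Type u) [Field L₀] [IsAlgClosed L₀] [Algebra R L₀] [FaithfulSMul R L₀]
    [∀ k, Finite (J k)] (hp : ∀ i : Σ k, J k, (fibI R L₀ (I i.1 i.2)).IsPrime)
    (hc : ∀ k, ∀ q : Ideal (L₀ ⊗[R] 𝔄.B k), q.IsPrime → ∃ j, fibI R L₀ (I k j) ≤ q) :
    Near R (fun L => ∀ i i', 𝔄.Meet I L i i' → Relation.EqvGen (𝔄.Meet I L₀) i i') := by
  have h1 := Near.all fun i : Σ k, J k => tmul_mem_fibI_near (R := R) L₀ (I i.1 i.2)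
  have h2 := Near.all fun p : Σ k, J k × J k =>
    (show Near R (fun L => fibI R L₀ (I p.1 p.2.1 ⊔ I p.1 p.2.2) = ⊤ → fibI R L (I p.1 p.2.1 ⊔ I p.1 p.2.2) = ⊤) by
      by_cases h : fibI R L₀ (I p.1 p.2.1 ⊔ I p.1 p.2.2) = ⊤
      · exact (eq_top_near L₀ _ h).mono fun L _ _ _ hL _ => hL
      · exact ⟨1, one_ne_zero, fun L _ _ _ _ e => absurd e h⟩)
  refine (h1.and h2).mono fun L _ _ _ h => ?_
  rintro ⟨k, a⟩ ⟨k', b⟩ ⟨_, ⟨p, hpa, rfl⟩, ⟨p', hpb, hpp'⟩⟩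
  let Q : PrimeSpectrum (L₀ ⊗[R] 𝔄.B k') := ⟨fibI R L₀ (I k' b), hp ⟨k', b⟩⟩
  have hQ : PrimeSpectrum.comap (Algebra.TensorProduct.includeRight : 𝔄.B k' →ₐ[R] L₀ ⊗[R] 𝔄.B k').toRingHom Q ≤
      PrimeSpectrum.comap (Algebra.TensorProduct.includeRight : 𝔄.B k' →ₐ[R] L ⊗[R] 𝔄.B k').toRingHom p' :=
    fun z hz => hpb (h.1 ⟨k', b⟩ z hz)
  have hsp : pullback.fst g (sp R L₀) (𝔄.piece L₀ k' Q) ⤳ pullback.fst g (sp R L) (𝔄.piece L k p) := by
    rw [← hpp', 𝔄.fst_piece_apply, 𝔄.fst_piece_apply]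
    exact ((PrimeSpectrum.le_iff_specializes _ _).1 hQ).map (𝔄.u k').continuous
  have hzr : 𝔄.piece L₀ k' Q ∈ Set.range (𝔄.piece L₀ k) := by
    rw [𝔄.range_piece]
    refine hsp.mem_open (𝔄.u k).isOpenEmbedding.isOpen_range ?_
    rw [𝔄.fst_piece_apply]
    exact ⟨_, rfl⟩
  obtain ⟨P, hP⟩ := hzr
  obtain ⟨l, hl⟩ := hc k P.asIdeal P.2
  have hlb : 𝔄.Meet I L₀ ⟨k, l⟩ ⟨k', b⟩ := ⟨_, ⟨P, hl, rfl⟩, Q, fun _ hz => hz, hP.symm⟩
  refine Relation.EqvGen.trans _ _ _ (Relation.EqvGen.rel _ _ ?_) (Relation.EqvGen.rel _ _ hlb)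
  rw [← hP, 𝔄.fst_piece_apply, 𝔄.fst_piece_apply, (𝔄.u k).isOpenEmbedding.isInducing.specializes_iff] at hsp
  have hle := (PrimeSpectrum.le_iff_specializes _ _).2 hsp
  have hpl : fibI R L (I k l) ≤ p.asIdeal :=
    Ideal.map_le_iff_le_comap.2 fun z hz => hle (hl (Ideal.mem_map_of_mem _ hz))
  have hne : fibI R L₀ (I k a ⊔ I k l) ≠ ⊤ := fun e => by
    have h0 := h.2 ⟨k, a, l⟩ e
    rw [fibI, Ideal.map_sup] at h0
    exact p.2.ne_top (top_le_iff.1 (h0.symm.le.trans (sup_le hpa hpl)))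
  obtain ⟨m, hm, hle'⟩ := Ideal.exists_le_maximal _ hne
  rw [fibI, Ideal.map_sup, sup_le_iff] at hle'
  exact ⟨_, ⟨⟨m, hm.isPrime⟩, hle'.1, rfl⟩, ⟨m, hm.isPrime⟩, hle'.2, rfl⟩

theorem card_near [IsDomain R] (L₀ : Type u) [Field L₀] [IsAlgClosed L₀] [Algebra R L₀] [FaithfulSMul R L₀]
    [Algebra.IsAlgebraic R L₀] [∀ k, Finite (J k)] (hfg : ∀ i : Σ k, J k, (I i.1 i.2).FG)
    (hp : ∀ i : Σ k, J k, (fibI R L₀ (I i.1 i.2)).IsPrime)
    (hc : ∀ k, ∀ q : Ideal (L₀ ⊗[R] 𝔄.B k), q.IsPrime → ∃ j, fibI R L₀ (I k j) ≤ q) :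
    Near R (fun L => ENat.card (_root_.ConnectedComponents ↥(pullback g (sp R L))) =
      ENat.card (_root_.ConnectedComponents ↥(pullback g (sp R L₀)))) := by
  have h1 := Near.all fun p : (Σ k, J k) × (Σ k, J k) =>
    (show Near R (fun L => 𝔄.Meet I L₀ p.1 p.2 → 𝔄.Meet I L p.1 p.2) by
      by_cases h : 𝔄.Meet I L₀ p.1 p.2
      · exact (𝔄.meet_near I L₀ p.1 p.2 h).mono fun L _ _ _ hL _ => hL
      · exact ⟨1, one_ne_zero, fun L _ _ _ _ e => absurd e h⟩)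
  have h2 := Near.all fun i : Σ k, J k => isPrime_near L₀ (I i.1 i.2) (hp i)
  have h3 := Near.all fun k => exists_le_prime_near L₀ (I k) (fun j => hfg ⟨k, j⟩) (hc k)
  refine ((h1.and h2).and (h3.and (𝔄.meet_of_meet_near I L₀ hp hc))).mono fun L _ _ _ h => ?_
  rw [𝔄.card_eq_quot I L h.1.2 h.2.1 (𝔄.Meet I L₀) (fun i i' hi => h.1.1 ⟨i, i'⟩ hi) h.2.2,
    𝔄.card_eq_quot I L₀ hp hc (𝔄.Meet I L₀) (fun i i' hi => hi) (fun i i' hi => Relation.EqvGen.rel _ _ hi)]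

end Pieces

end Atlas

theorem cancel_one_tmul {R : Type u} [CommRing R] {L₀ : Type u} [Field L₀] [Algebra R L₀] (R' : Subalgebra R L₀)
    (B : Type u) [CommRing B] [Algebra R B] (v : R' ⊗[R] B) :
    Algebra.TensorProduct.cancelBaseChange R R' L₀ L₀ B ((1 : L₀) ⊗ₜ[R'] v) =
      Algebra.TensorProduct.map R'.val (AlgHom.id R B) v := by
  induction v with
  | zero => simp
  | tmul r b' =>
    simp only [Algebra.TensorProduct.cancelBaseChange_tmul, Algebra.TensorProduct.map_tmul, Algebra.smul_def, mul_one]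
    rfl
  | add x y hx hy => rw [tmul_add, map_add, map_add, hx, hy]

theorem card_connectedComponents_iso {A B : Scheme.{u}} (e : A ≅ B) :
    ENat.card (_root_.ConnectedComponents ↥A) = ENat.card (_root_.ConnectedComponents ↥B) :=
  Groth.Agent.Triage.GeomCount.card_connectedComponents_eq e.hom.homeomorph e.hom.homeomorph.continuous
    e.hom.homeomorph.surjective fun _ => e.hom.homeomorph.isPreconnected_preimage.2 isPreconnected_connectedComponent

set_option maxHeartbeats 4000000 in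
set_option synthInstance.maxHeartbeats 200000 in
/-- The number of connected components of the geometric fibres is constant near the generic point. -/
theorem exists_card_near [IsDomain R] (g : X ⟶ Spec (CommRingCat.of R)) [LocallyOfFiniteType g] [QuasiCompact g]
    (L₀ : Type u) [Field L₀] [IsAlgClosed L₀] [Algebra R L₀] [FaithfulSMul R L₀] [Algebra.IsAlgebraic R L₀] :
    Near R (fun L => ENat.card (_root_.ConnectedComponents ↥(pullback g (sp R L))) =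
      ENat.card (_root_.ConnectedComponents ↥(pullback g (sp R L₀)))) := by
  classical
  obtain ⟨𝔄⟩ := exists_atlas g
  haveI : ∀ k, IsNoetherianRing (L₀ ⊗[R] 𝔄.B k) := fun k => Algebra.FiniteType.isNoetherianRing L₀ _
  let J : 𝔄.κ → Type u := fun k => ↥(minimalPrimes (L₀ ⊗[R] 𝔄.B k))
  haveI : ∀ k, Finite (J k) := fun k => (minimalPrimes.finite_of_isNoetherianRing _).to_subtype
  choose G hG using fun (i : Σ k, J k) => IsNoetherian.noetherian (i.2.1 : Ideal (L₀ ⊗[R] 𝔄.B i.1))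
  choose Tz hTz using fun (k : 𝔄.κ) (z : L₀ ⊗[R] 𝔄.B k) => exists_finset_mem_range z
  haveI := Fintype.ofFinite (Σ k, J k)
  let T : Finset L₀ := Finset.univ.biUnion fun i : Σ k, J k => (G i).biUnion (Tz i.1)
  refine near_of_adjoin T ?_
  let R' := Algebra.adjoin R (T : Set L₀)
  haveI : FaithfulSMul R' L₀ := (faithfulSMul_iff_algebraMap_injective _ _).2 Subtype.val_injective
  haveI : Algebra.IsAlgebraic R' L₀ := Algebra.IsAlgebraic.extendScalars (R := R)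
    (show Function.Injective (algebraMap R R') from fun x y h =>
      FaithfulSMul.algebraMap_injective R L₀ (congrArg Subtype.val h))
  let 𝔄' := 𝔄.baseChange R'
  have hl : ∀ (i : Σ k, J k), ∀ z ∈ G i, ∃ w : R' ⊗[R] 𝔄.B i.1,
      Algebra.TensorProduct.map R'.val (AlgHom.id R (𝔄.B i.1)) w = z := fun i z hz =>
    mem_range_adjoin_mono (fun x hx => Finset.mem_biUnion.2 ⟨i, Finset.mem_univ _, Finset.mem_biUnion.2 ⟨z, hz, hx⟩⟩)
      (hTz i.1 z)
  choose w hw using hl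
  let e : ∀ k, L₀ ⊗[R'] (R' ⊗[R] 𝔄.B k) ≃ₐ[L₀] L₀ ⊗[R] 𝔄.B k := fun k =>
    Algebra.TensorProduct.cancelBaseChange R R' L₀ L₀ (𝔄.B k)
  have key : ∀ k v, e k ((1 : L₀) ⊗ₜ[R'] v) = Algebra.TensorProduct.map R'.val (AlgHom.id R (𝔄.B k)) v :=
    fun k v => cancel_one_tmul R' (𝔄.B k) v
  let I : ∀ k, J k → Ideal (R' ⊗[R] 𝔄.B k) := fun k j =>
    Ideal.span (Set.range fun z : G ⟨k, j⟩ => w ⟨k, j⟩ z.1 z.2)
  have hIeq : ∀ i : Σ k, J k, fibI R' L₀ (I i.1 i.2) = Ideal.comap (e i.1) i.2.1 := by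
    intro i
    refine le_antisymm ?_ ?_
    · rw [fibI, Ideal.map_span, Ideal.span_le]
      rintro _ ⟨_, ⟨z, rfl⟩, rfl⟩
      rw [SetLike.mem_coe, Ideal.mem_comap, Algebra.TensorProduct.includeRight_apply, key, hw, ← hG i]
      exact Submodule.subset_span z.2
    · intro x hx
      have : e i.1 x ∈ Ideal.map (e i.1) (fibI R' L₀ (I i.1 i.2)) := by
        have hx' : e i.1 x ∈ i.2.1 := hx
        rw [← hG i] at hx'
        refine (Ideal.span_le.2 ?_ : Ideal.span (G i : Set _) ≤ _) hx'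
        intro z hz
        rw [SetLike.mem_coe, ← hw i z hz, ← key]
        exact Ideal.mem_map_of_mem _ (Ideal.mem_map_of_mem _ (Ideal.subset_span ⟨⟨z, hz⟩, rfl⟩))
      obtain ⟨x', hx', he⟩ := (Ideal.mem_map_iff_of_surjective _ (e i.1).surjective).1 this
      rwa [(e i.1).injective he] at hx'
  have hp : ∀ i : Σ k, J k, (fibI R' L₀ (I i.1 i.2)).IsPrime := fun i => by
    rw [hIeq]
    haveI : (i.2.1 : Ideal (L₀ ⊗[R] 𝔄.B i.1)).IsPrime := i.2.2.1.1
    exact Ideal.comap_isPrime _ _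
  have hc : ∀ k, ∀ q : Ideal (L₀ ⊗[R'] (R' ⊗[R] 𝔄.B k)), q.IsPrime → ∃ j, fibI R' L₀ (I k j) ≤ q := by
    intro k q hq
    haveI := hq
    obtain ⟨P, hP, hPle⟩ := Ideal.exists_minimalPrimes_le (I := (⊥ : Ideal (L₀ ⊗[R] 𝔄.B k)))
      (J := Ideal.comap (e k).symm q) bot_le
    refine ⟨⟨P, hP⟩, ?_⟩
    rw [hIeq ⟨k, ⟨P, hP⟩⟩]
    intro x hx
    have := hPle hx
    rw [Ideal.mem_comap, AlgEquiv.symm_apply_apply] at this
    exact this
  haveI : LocallyOfFiniteType (pullback.snd g (sp R R')) := MorphismProperty.pullback_snd _ _ ‹_›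
  have hiso : ∀ (L : Type u) [Field L] [Algebra R L] [Algebra R' L] [IsScalarTower R R' L],
      ENat.card (_root_.ConnectedComponents ↥(pullback (pullback.snd g (sp R R')) (sp R' L))) =
        ENat.card (_root_.ConnectedComponents ↥(pullback g (sp R L))) := fun L _ _ _ _ =>
    card_connectedComponents_iso (pullbackLeftPullbackSndIso g (sp R R') (sp R' L) ≪≫
      pullback.congrHom rfl (by rw [← Spec.map_comp, ← CommRingCat.ofHom_comp, ← IsScalarTower.algebraMap_eq]))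
  refine (𝔄'.card_near I L₀ (fun i => Submodule.fg_span (Set.finite_range _)) hp hc).mono fun L _ _ _ hL => ?_
  intro _ _
  rw [← hiso L, hL, hiso L₀]

end Groth.Agent.H1Spread
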