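import Groth.Agent.H1Spread.Stage
import Mathlib

/-!
# An absolutely irreducible polynomial stays irreducible near the generic point
-/

universe u

open MvPolynomial

noncomputable section

namespace Groth.Agent.H1Spread

variable {σ : Type u} [Finite σ]

theorem exists_ne_zero_mem_support_of_not_isUnit {L : Type u} [Field L] {G : MvPolynomial σ L} (hG : G ≠ 0)
    (hu : ¬ IsUnit G) : ∃ s ∈ G.support, s ≠ 0 := by
  classical
  by_contra! h
  refine hu ?_
  have hGC : G = C (coeff 0 G) := by
    ext m
    rw [coeff_C]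
    split_ifs with hm
    · rw [← hm]
    · exact notMem_support_iff.1 fun hm' => hm (h m hm').symm
  have h0 : coeff 0 G ≠ 0 := fun e => hG (by rw [hGC, e, map_zero])
  rw [hGC]
  exact (isUnit_iff_ne_zero.2 h0).map C

theorem not_isUnit_of_coeff_ne_zero {L : Type u} [Field L] {G : MvPolynomial σ L} {s : σ →₀ ℕ} (hs : s ≠ 0)
    (h : coeff s G ≠ 0) : ¬ IsUnit G := fun hu => by
  classical
  obtain ⟨a, -, rfl⟩ := MvPolynomial.isUnit_iff_eq_C_of_isReduced.1 hu
  rw [coeff_C, if_neg (Ne.symm hs)] at h
  exact h rfl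

theorem mem_box_of_mem_support {L : Type u} [CommRing L] {G : MvPolynomial σ L} {N : ℕ} (hN : G.totalDegree ≤ N)
    {s : σ →₀ ℕ} (hs : s ∈ G.support) : s ≤ Finsupp.equivFunOnFinite.symm (fun _ => N) := by
  intro i
  simp only [Finsupp.equivFunOnFinite_symm_apply_apply]
  refine le_trans ?_ ((le_totalDegree hs).trans hN)
  by_cases hi : i ∈ s.support
  · exact Finset.single_le_sum (f := fun j => s j) (fun j _ => Nat.zero_le _) hi
  · simp [Finsupp.notMem_support_iff.1 hi]

theorem exists_span_prime_near {R : Type u} [CommRing R] [IsDomain R] {L₀ : Type u} [Field L₀] [IsAlgClosed L₀]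
    [Algebra R L₀] [FaithfulSMul R L₀] (F : MvPolynomial σ R) (hF : map (algebraMap R L₀) F ≠ 0)
    (hp : (Ideal.span {map (algebraMap R L₀) F}).IsPrime) :
    Near R (fun L => (Ideal.span {map (algebraMap R L) F}).IsPrime) := by
  classical
  have hprime := (Ideal.span_singleton_prime hF).1 hp
  obtain ⟨st, hst, hst0⟩ := exists_ne_zero_mem_support_of_not_isUnit hF hprime.not_unit
  let N := F.totalDegree
  let Box := (Finset.Iic (Finsupp.equivFunOnFinite.symm (fun _ : σ => N)) : Finset (σ →₀ ℕ))
  let V := ((Box : Type u) ⊕ (Box : Type u)) ⊕ ULift.{u} Bool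
  let Gu : MvPolynomial σ (MvPolynomial V R) := ∑ s : Box, monomial s.1 (X (Sum.inl (Sum.inl s)))
  let Hu : MvPolynomial σ (MvPolynomial V R) := ∑ s : Box, monomial s.1 (X (Sum.inl (Sum.inr s)))
  let I : {s : Box // s.1 ≠ 0} × {s : Box // s.1 ≠ 0} → Ideal (MvPolynomial V R) := fun p =>
    Ideal.span (Set.range (fun m => coeff m (Gu * Hu - map C F)) ∪
      {X (Sum.inr ⟨false⟩) * X (Sum.inl (Sum.inl p.1.1)) - 1, X (Sum.inr ⟨true⟩) * X (Sum.inl (Sum.inr p.2.1)) - 1})
  -- a point of `I p` is a factorisation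
  have eval_eq : ∀ {L : Type u} [CommRing L] [Algebra R L] (x : V → L),
      map (aeval x).toRingHom (Gu * Hu - map C F) =
        (∑ s : Box, monomial s.1 (x (Sum.inl (Sum.inl s)))) * (∑ s : Box, monomial s.1 (x (Sum.inl (Sum.inr s)))) -
          map (algebraMap R L) F := by
    intro L _ _ x
    have hC : (aeval x).toRingHom.comp C = algebraMap R L := RingHom.ext fun r => aeval_C x r
    simp only [Gu, Hu, map_sub, map_mul, map_sum, map_monomial, AlgHom.toRingHom_eq_coe, RingHom.coe_coe,
      aeval_X, map_map]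
    rw [AlgHom.toRingHom_eq_coe] at hC
    rw [hC]
  have coeff_sum : ∀ {L : Type u} [CommRing L] (a : Box → L) (s : Box),
      coeff s.1 (∑ t : Box, monomial t.1 (a t)) = a s := by
    intro L _ a s
    rw [coeff_sum, Finset.sum_eq_single s]
    · rw [coeff_monomial, if_pos rfl]
    · intro t _ ht
      rw [coeff_monomial, if_neg fun e => ht (Subtype.ext e)]
    · exact fun h => absurd (Finset.mem_univ s) h
  -- no point over the algebraic closure
  have hr : ∀ p, ∃ r : R, r ≠ 0 ∧ C r ∈ I p := by
    intro p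
    by_contra! hno
    let K := FractionRing R
    letI := FractionRing.liftAlgebra R L₀
    haveI := FractionRing.isScalarTower_liftAlgebra R L₀
    letI : Algebra (MvPolynomial V R) (MvPolynomial V K) := (map (algebraMap R K)).toAlgebra
    have hne : (I p).map (algebraMap (MvPolynomial V R) (MvPolynomial V K)) ≠ ⊤ := by
      haveI : IsLocalization ((nonZeroDivisors R).map (C (σ := V))) (MvPolynomial V K) :=
        MvPolynomial.isLocalization (σ := V) (nonZeroDivisors R) K
      rw [IsLocalization.map_algebraMap_ne_top_iff_disjoint ((nonZeroDivisors R).map (C (σ := V)))]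
      rw [Set.disjoint_left]
      rintro _ ⟨r, hr, rfl⟩ hmem
      exact hno r (nonZeroDivisors.ne_zero hr) hmem
    obtain ⟨m, hm, hle⟩ := Ideal.exists_le_maximal _ hne
    haveI := hm
    letI := Ideal.Quotient.field m
    haveI : Module.Finite K (MvPolynomial V K ⧸ m) := finite_of_finite_type_of_isJacobsonRing K _
    haveI : Module.IsTorsionFree K (MvPolynomial V K ⧸ m) :=
      Module.isTorsionFree_iff_algebraMap_injective.2 (RingHom.injective _)
    haveI : Algebra.IsAlgebraic K (MvPolynomial V K ⧸ m) := Algebra.IsAlgebraic.of_finite K _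
    let e : (MvPolynomial V K ⧸ m) →ₐ[K] L₀ := IsAlgClosed.lift
    let x : V → L₀ := fun v => e (Ideal.Quotient.mk m (X v))
    have hker : ∀ z ∈ I p, aeval x z = 0 := by
      intro z hz
      have h1 : (e.toRingHom.comp (Ideal.Quotient.mk m)).comp (map (algebraMap R K)) = (aeval x).toRingHom := by
        refine MvPolynomial.ringHom_ext (fun r => ?_) (fun v => ?_)
        · simp only [RingHom.comp_apply, map_C, AlgHom.toRingHom_eq_coe, RingHom.coe_coe, aeval_C]
          rw [← MvPolynomial.algebraMap_eq, Ideal.Quotient.mk_algebraMap, AlgHom.commutes,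
            ← IsScalarTower.algebraMap_apply]
        · simp [x]
      have h2 : map (algebraMap R K) z ∈ m := hle (Ideal.mem_map_of_mem _ hz)
      have h3 := RingHom.congr_fun h1 z
      simp only [RingHom.comp_apply, Ideal.Quotient.eq_zero_iff_mem.2 h2, map_zero, AlgHom.toRingHom_eq_coe,
        RingHom.coe_coe] at h3
      exact h3.symm
    have hfac : (∑ s : Box, monomial s.1 (x (Sum.inl (Sum.inl s)))) *
        (∑ s : Box, monomial s.1 (x (Sum.inl (Sum.inr s)))) = map (algebraMap R L₀) F := by
      rw [← sub_eq_zero, ← eval_eq x]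
      ext m'
      rw [coeff_map, coeff_zero]
      exact hker _ (Ideal.subset_span (Or.inl ⟨m', rfl⟩))
    have hw : ∀ (b : Bool) (v : V), X (Sum.inr ⟨b⟩) * X v - 1 ∈ I p → x v ≠ 0 := by
      intro b v hv h0
      have := hker _ hv
      rw [map_sub, map_mul, map_one, aeval_X, aeval_X, h0, mul_zero, zero_sub, neg_eq_zero] at this
      exact one_ne_zero this
    rcases hprime.irreducible.isUnit_or_isUnit hfac.symm with h | h
    · refine not_isUnit_of_coeff_ne_zero p.1.2 ?_ h
      rw [coeff_sum]
      exact hw false _ (Ideal.subset_span (Or.inr (Or.inl rfl)))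
    · refine not_isUnit_of_coeff_ne_zero p.2.2 ?_ h
      rw [coeff_sum]
      exact hw true _ (Ideal.subset_span (Or.inr (Or.inr rfl)))
  choose r hr0 hrI using hr
  refine ⟨coeff st F * ∏ p, r p, mul_ne_zero ?_ (Finset.prod_ne_zero_iff.2 fun p _ => hr0 p),
    fun L _ _ _ hL => ?_⟩
  · intro e
    rw [mem_support_iff, coeff_map, e, map_zero] at hst
    exact hst rfl
  rw [map_mul, map_prod] at hL
  have hc : coeff st (map (algebraMap R L) F) ≠ 0 := by
    rw [coeff_map]; exact left_ne_zero_of_mul hL
  have hF' : map (algebraMap R L) F ≠ 0 := fun e => hc (by rw [e, coeff_zero])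
  rw [Ideal.span_singleton_prime hF', ← UniqueFactorizationMonoid.irreducible_iff_prime]
  refine ⟨not_isUnit_of_coeff_ne_zero hst0 hc, fun G H hGH => ?_⟩
  by_contra! hu
  have hG0 : G ≠ 0 := fun e => hF' (by rw [hGH, e, zero_mul])
  have hH0 : H ≠ 0 := fun e => hF' (by rw [hGH, e, mul_zero])
  have hdeg : G.totalDegree + H.totalDegree ≤ N := by
    rw [← totalDegree_mul_of_isDomain hG0 hH0, ← hGH]
    exact Finset.sup_mono (support_map_subset _ _)
  obtain ⟨s0, hs0, hs00⟩ := exists_ne_zero_mem_support_of_not_isUnit hG0 hu.1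
  obtain ⟨s1, hs1, hs10⟩ := exists_ne_zero_mem_support_of_not_isUnit hH0 hu.2
  have hG : G.totalDegree ≤ N := le_trans (Nat.le_add_right _ _) hdeg
  have hH : H.totalDegree ≤ N := le_trans (Nat.le_add_left _ _) hdeg
  let p : {s : Box // s.1 ≠ 0} × {s : Box // s.1 ≠ 0} :=
    (⟨⟨s0, Finset.mem_Iic.2 (mem_box_of_mem_support hG hs0)⟩, hs00⟩,
     ⟨⟨s1, Finset.mem_Iic.2 (mem_box_of_mem_support hH hs1)⟩, hs10⟩)
  let x : V → L := Sum.elim (Sum.elim (fun s => coeff s.1 G) (fun s => coeff s.1 H))
    (fun b => cond b.down (coeff s1 H)⁻¹ (coeff s0 G)⁻¹)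
  have hsum : ∀ {P : MvPolynomial σ L}, P.totalDegree ≤ N → (∑ s : Box, monomial s.1 (coeff s.1 P)) = P := by
    intro P hP
    rw [Finset.sum_coe_sort Box fun s => monomial s (coeff s P)]
    conv_rhs => rw [← support_sum_monomial_coeff P]
    refine (Finset.sum_subset (fun s hs => Finset.mem_Iic.2 (mem_box_of_mem_support hP hs)) fun s _ hs => ?_).symm
    rw [notMem_support_iff.1 hs, map_zero]
  have hker : I p ≤ RingHom.ker (aeval x).toRingHom := by
    refine Ideal.span_le.2 ?_
    rintro z (⟨m, rfl⟩ | rfl | rfl)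
    · show aeval x (coeff m _) = 0
      rw [show aeval x (coeff m (Gu * Hu - map C F)) = coeff m (map (aeval x).toRingHom (Gu * Hu - map C F)) from
        (coeff_map _ _ _).symm, eval_eq x]
      simp only [x, Sum.elim_inl, Sum.elim_inr]
      rw [hsum hG, hsum hH, ← hGH, sub_self, coeff_zero]
    · show aeval x _ = 0
      simp only [map_sub, map_mul, map_one, aeval_X, x, Sum.elim_inr, Sum.elim_inl, cond_false, p]
      rw [inv_mul_cancel₀ (mem_support_iff.1 hs0), sub_self]
    · show aeval x _ = 0
      simp only [map_sub, map_mul, map_one, aeval_X, x, Sum.elim_inr, Sum.elim_inl, cond_true, p]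
      rw [inv_mul_cancel₀ (mem_support_iff.1 hs1), sub_self]
  have h0 : algebraMap R L (r p) = 0 := by
    have h := hker (hrI p)
    rw [RingHom.mem_ker] at h
    exact (aeval_C x (r p)).symm.trans h
  exact right_ne_zero_of_mul hL (Finset.prod_eq_zero (Finset.mem_univ p) h0)

end Groth.Agent.H1Spread
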